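import Cfsg.Agent.Lib.Blocks.PrimeSylow
import Cfsg.Agent.Lib.JankoFour.Basic
import Cfsg.Agent.S5563
import Cfsg.Agent.S5564
import Cfsg.Agent.S5569
import Cfsg.Agent.S5572
import Cfsg.Agent.S5573

/-!
# No element of a big prime order centralises an element of order 2, 3, 5 or 7 in a group of Janko-four type
-/

set_option autoImplicit false

namespace CfsgLib.J4Local

open Subgroup

universe u

variable {G : Type u} [Group G] [Finite G]

theorem orderOf_conj' (g x : G) : orderOf (g * x * g⁻¹) = orderOf x := by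
  rw [← MulAut.conj_apply]; exact MulEquiv.orderOf_eq _ x

theorem commute_conj {x y : G} (g : G) (h : Commute x y) : Commute (g * x * g⁻¹) (g * y * g⁻¹) := by
  rw [← MulAut.conj_apply, ← MulAut.conj_apply]; exact h.map _

theorem centralizer_zpowers_eq (x : G) :
    centralizer ((zpowers x : Subgroup G) : Set G) = centralizer ({x} : Set G) := by
  refine le_antisymm (centralizer_le (Set.singleton_subset_iff.2 (mem_zpowers x))) fun g hg => ?_
  refine mem_centralizer_iff.2 fun a ha => ?_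
  obtain ⟨i, rfl⟩ := mem_zpowers_iff.1 ha
  exact ((show Commute x g from (mem_centralizer_singleton_iff.1 hg).symm).zpow_left i).eq

theorem card_sylow_of_sq {p : ℕ} [hp : Fact p.Prime] (hd : p ∣ Nat.card G) (hd2 : ¬ p ^ 2 ∣ Nat.card G)
    (U : Sylow p G) : Nat.card ↥(U : Subgroup G) = p := by
  rw [Sylow.card_eq_multiplicity U]
  have hn : Nat.card G ≠ 0 := Nat.card_pos.ne'
  have a1 := (hp.out.pow_dvd_iff_le_factorization hn).1 (by simpa using hd : p ^ 1 ∣ Nat.card G)
  have a2 := mt (hp.out.pow_dvd_iff_le_factorization hn).2 hd2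
  rw [show (Nat.card G).factorization p = 1 by omega, pow_one]

theorem exists_conj_sylow {p : ℕ} [hp : Fact p.Prime] (hd2 : ¬ p ^ 2 ∣ Nat.card G) (U : Sylow p G) {a : G}
    (ha : orderOf a = p) : ∃ g : G, zpowers (g * a * g⁻¹) = (U : Subgroup G) := by
  have hd : p ∣ Nat.card G := ha ▸ orderOf_dvd_natCard a
  obtain ⟨Q, hQ⟩ := (IsPGroup.of_card (n := 1) (by rw [Nat.card_zpowers, ha, pow_one]) : IsPGroup p (zpowers a)).exists_le_sylow
  obtain ⟨g, rfl⟩ := MulAction.exists_smul_eq G Q U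
  refine ⟨g, eq_of_le_of_card_ge (zpowers_le.2 ?_) (le_of_eq ?_)⟩
  · exact ⟨a, hQ (mem_zpowers a), rfl⟩
  · rw [Nat.card_zpowers, orderOf_conj', ha, card_sylow_of_sq hd hd2]

theorem prime_conj_absurd {r : ℕ} [hr : Fact r.Prime] (hsq : ¬ r * r ∣ Nat.card G) {a y x : G}
    (ha : orderOf a = r) (hy : orderOf y = r) (hc : Commute x y) {p M : ℕ} (hx : orderOf x = p)
    (hN : Nat.card ↥(normalizer ((zpowers a : Subgroup G) : Set G)) = M) (hp : ¬ p ∣ M) : False := by
  have hsq' : ¬ r ^ 2 ∣ Nat.card G := by rwa [pow_two]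
  let Q : Sylow r G := Sylow.ofCard (zpowers a) (by
    have hn : Nat.card G ≠ 0 := Nat.card_pos.ne'
    have a1 := (hr.out.pow_dvd_iff_le_factorization hn).1 (by simpa [ha] using orderOf_dvd_natCard a : r ^ 1 ∣ Nat.card G)
    have a2 := mt (hr.out.pow_dvd_iff_le_factorization hn).2 hsq'
    rw [Nat.card_zpowers, ha, show (Nat.card G).factorization r = 1 by omega, pow_one])
  obtain ⟨g, hg⟩ := exists_conj_sylow hsq' Q hy
  refine hp ?_
  have hmem : g * x * g⁻¹ ∈ normalizer ((zpowers a : Subgroup G) : Set G) := by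
    refine centralizer_le_normalizer _ ?_
    have e : zpowers a = zpowers (g * y * g⁻¹) := by rw [hg]; rfl
    rw [e, centralizer_zpowers_eq, mem_centralizer_singleton_iff]
    exact (commute_conj g hc).eq
  rw [← hN, ← hx, ← orderOf_conj' g x, ← Subgroup.orderOf_mk _ hmem]
  exact orderOf_dvd_natCard _

variable [IsSimpleGroup G]

theorem card_centralizer_z {z : G} (hJ : Cfsg.IsOfJankoFourTypeAt z) :
    Nat.card ↥(centralizer ({z} : Set G)) = 887040 * (3 * 2 ^ 13) := by
  obtain ⟨P, hP⟩ := hJ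
  obtain ⟨S⟩ := JankoFour.exists_setting hP
  exact JankoFour.card_cz S

theorem not_commute_of_z {z x : G} (hJ : Cfsg.IsOfJankoFourTypeAt z) {p : ℕ} (hx : orderOf x = p)
    (hp : ¬ p ∣ 887040 * (3 * 2 ^ 13)) : x ∉ centralizer ({z} : Set G) := fun h => by
  refine hp ?_
  rw [← card_centralizer_z hJ, ← hx, ← orderOf_mk _ h]
  exact orderOf_dvd_natCard _

theorem no_small_commute (hG : ¬ IsMulCommutative G) (hJ : Cfsg.IsOfJankoFourType G) {p : ℕ} [hpf : Fact p.Prime]
    (hp : p ∈ ([23, 29, 31, 37, 43] : List ℕ)) {x y : G} (hx : orderOf x = p) {r : ℕ}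
    (hr : r ∈ ([2, 3, 5, 7] : List ℕ)) (hy : orderOf y = r) : ¬ Commute x y := by
  intro hc
  obtain ⟨z, hz⟩ := hJ
  have hnz : ¬ p ∣ 887040 * (3 * 2 ^ 13) := by
    simp only [List.mem_cons, List.not_mem_nil, or_false] at hp
    rcases hp with rfl | rfl | rfl | rfl | rfl <;> norm_num
  simp only [List.mem_cons, List.not_mem_nil, or_false] at hr
  rcases hr with rfl | rfl | rfl | rfl
  · by_cases hzy : IsConj z y
    · obtain ⟨g, rfl⟩ := isConj_iff.1 hzy
      refine not_commute_of_z hz (x := g⁻¹ * x * g) (by rw [← hx]; simpa using orderOf_conj' g⁻¹ x) hnz ?_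
      rw [mem_centralizer_singleton_iff]
      have h := commute_conj g⁻¹ hc
      simp only [inv_inv] at h
      simpa [mul_assoc] using h.eq
    · obtain ⟨V, K, hV, hK, hN, -, hVc, -, hsup, ⟨eK⟩⟩ := Cfsg.Agent.S5569.result hG z hz y hy hzy
      set C := centralizer ({y} : Set G) with hC
      have hxC : x ∈ C := mem_centralizer_singleton_iff.2 hc.eq
      have hxm : x ∈ K ⊔ V := by rw [hsup]; exact hxC
      rw [← SetLike.mem_coe, Subgroup.coe_mul_of_left_le_normalizer_right K V (hK.trans hN)] at hxm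
      obtain ⟨k, hk, v, hv, rfl⟩ := Set.mem_mul.1 hxm
      haveI : (V.subgroupOf C).Normal := normal_subgroupOf_of_le_normalizer hN
      have h1 : (QuotientGroup.mk' (V.subgroupOf C) ⟨k * v, hxC⟩) ^ 887040 = 1 := by
        have e : QuotientGroup.mk' (V.subgroupOf C) ⟨k * v, hxC⟩ = QuotientGroup.mk' (V.subgroupOf C) ⟨k, hK hk⟩ := by
          rw [QuotientGroup.mk'_eq_mk']
          exact ⟨⟨v⁻¹, hV (inv_mem hv)⟩, inv_mem hv, Subtype.ext (by simp)⟩
        have hk1 : (⟨k, hk⟩ : K) ^ 887040 = 1 := by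
          rw [← JankoFour.card_aut_M22, ← Nat.card_congr eK.toEquiv]; exact pow_card_eq_one'
        rw [e, ← map_pow]
        refine (congrArg _ (Subtype.ext ?_)).trans (map_one _)
        simpa using congrArg Subtype.val hk1
      rw [← map_pow, ← MonoidHom.mem_ker, QuotientGroup.ker_mk', mem_subgroupOf] at h1
      have h2 : (⟨_, h1⟩ : V) ^ 2 ^ 11 = 1 := by rw [← hVc]; exact pow_card_eq_one'
      have h3 : orderOf (k * v) ∣ 887040 * 2 ^ 11 := by
        refine orderOf_dvd_of_pow_eq_one ?_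
        rw [pow_mul]
        exact congrArg Subtype.val h2
      rw [hx] at h3
      exact hnz (h3.trans ⟨12, by norm_num⟩)
  · obtain ⟨P, hP⟩ := hz
    have hPc : Nat.card P = 3 := hP.2.2.2.2.2.1
    obtain ⟨a, ha⟩ := exists_prime_orderOf_dvd_card' (G := P) 3 (hPc ▸ dvd_rfl)
    have ha' : orderOf (a : G) = 3 := by rw [Subgroup.orderOf_coe]; exact ha
    obtain ⟨g, hg⟩ := isConj_iff.1 (Cfsg.Agent.S5564.result hG ⟨z, P, hP⟩ y a hy ha')
    have hN := (Cfsg.Agent.S5563.result hG z P hP).2.2.2.2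
    refine not_commute_of_z ⟨P, hP⟩ (x := g * x * g⁻¹) (by rw [orderOf_conj', hx]) hnz (hN ?_)
    have hPe : zpowers (a : G) = P := eq_of_le_of_card_ge (zpowers_le.2 a.2)
      (by rw [Nat.card_zpowers, ha', hPc])
    rw [← hPe]
    refine centralizer_le_normalizer _ ?_
    rw [centralizer_zpowers_eq, mem_centralizer_singleton_iff]
    have h := commute_conj g hc
    rw [hg] at h
    exact h.eq
  · haveI : Fact (Nat.Prime 5) := ⟨by norm_num⟩
    obtain ⟨⟨a, haz⟩, ha⟩ := exists_prime_orderOf_dvd_card' (G := centralizer ({z} : Set G)) 5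
      (by rw [card_centralizer_z hz]; norm_num)
    have ha' : orderOf a = 5 := by rw [← ha, Subgroup.orderOf_mk]
    have hQ : Nat.card (zpowers a) = 5 := by rw [Nat.card_zpowers]; exact ha'
    obtain ⟨hsq, -, -, hN⟩ := Cfsg.Agent.S5572.result hG z hz (zpowers a) hQ (zpowers_le.2 haz)
    exact prime_conj_absurd (r := 5) hsq ha' hy hc hx hN (by
      simp only [List.mem_cons, List.not_mem_nil, or_false] at hp
      rcases hp with rfl | rfl | rfl | rfl | rfl <;> norm_num)
  · haveI : Fact (Nat.Prime 7) := ⟨by norm_num⟩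
    obtain ⟨⟨a, haz⟩, ha⟩ := exists_prime_orderOf_dvd_card' (G := centralizer ({z} : Set G)) 7
      (by rw [card_centralizer_z hz]; norm_num)
    have ha' : orderOf a = 7 := by rw [← ha, Subgroup.orderOf_mk]
    have hQ : Nat.card (zpowers a) = 7 := by rw [Nat.card_zpowers]; exact ha'
    obtain ⟨hsq, -, -, hN⟩ := Cfsg.Agent.S5573.result hG z hz (zpowers a) hQ (zpowers_le.2 haz)
    exact prime_conj_absurd (r := 7) hsq ha' hy hc hx hN (by
      simp only [List.mem_cons, List.not_mem_nil, or_false] at hp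
      rcases hp with rfl | rfl | rfl | rfl | rfl <;> norm_num)

end CfsgLib.J4Local
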