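import Cfsg.Agent.Lib.J4Local.FixVec
import Cfsg.Agent.Lib.J4Local.FixData
import Cfsg.Agent.Lib.J4P.TabData

/-!
# Kernel checks of the representatives of prime order
-/

set_option autoImplicit false
set_option maxRecDepth 100000

namespace CfsgLib.J4Local

open CfsgLib.J4P

/-- The check of a word and its matrix. -/
noncomputable def wordB (w A : List ℕ) : Bool :=
  (w.all fun g => Nat.blt g 6) && Nat.beq A.length 112 && (evalB 112 tabJ w == A)

theorem fix23 : (wordB word23 mat23 && fixCertB 2 mat23 fixQ23 fixP23 fixT23) = true := by decide +kernel

theorem fix29 : (wordB word29 mat29 && fixCertB 0 mat29 fixQ29 fixP29 fixT29) = true := by decide +kernel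

theorem fix31 : (wordB word31 mat31 && fixCertB 2 mat31 fixQ31 fixP31 fixT31) = true := by decide +kernel

theorem fix37 : (wordB word37 mat37 && fixCertB 4 mat37 fixQ37 fixP37 fixT37) = true := by decide +kernel

theorem fix43 : (wordB word43 mat43 && fixCertB 0 mat43 fixQ43 fixP43 fixT43) = true := by decide +kernel

/-- The repeated product. -/
def powL (A : List ℕ) : ℕ → List ℕ
  | 0 => idB 112
  | n + 1 => mmulB (powL A n) A

theorem ord23 : (powL mat23 23 == idB 112) = true ∧ (mat23 == idB 112) = false := by decide +kernel

theorem ord29 : (powL mat29 29 == idB 112) = true ∧ (mat29 == idB 112) = false := by decide +kernel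

theorem ord31 : (powL mat31 31 == idB 112) = true ∧ (mat31 == idB 112) = false := by decide +kernel

theorem ord37 : (powL mat37 37 == idB 112) = true ∧ (mat37 == idB 112) = false := by decide +kernel

theorem ord43 : (powL mat43 43 == idB 112) = true ∧ (mat43 == idB 112) = false := by decide +kernel

theorem inv_pair : (wordB invA invAMat && wordB invB invBMat && (mmulB invAMat invAMat == idB 112) &&
    (mmulB invBMat invBMat == idB 112) && (powL (mmulB invAMat invBMat) 31 == idB 112)) = true ∧
    (mmulB invAMat invBMat == idB 112) = false := by decide +kernel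

end CfsgLib.J4Local
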