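import Cfsg.Agent.Lib.J4P.BitMat
import Mathlib.GroupTheory.Perm.Cycle.Type
import Mathlib.GroupTheory.OrderOfElement
import Mathlib.LinearAlgebra.Dimension.Free
import Mathlib.Algebra.Field.ZMod
import Mathlib.FieldTheory.Finiteness

/-!
# Fixed vectors of elements of prime order and of commuting pairs
-/

set_option autoImplicit false
set_option maxRecDepth 20000

namespace CfsgLib.J4Local

open CfsgLib.J4P Matrix

/-- The units of the matrices. -/
abbrev U112 : Type := (Matrix (Fin 112) (Fin 112) (ZMod 2))ˣ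

/-- The space. -/
abbrev V112 : Type := Fin 112 → ZMod 2

/-- A rectangular matrix of packed rows. -/
def toMatR (n m : ℕ) (A : List ℕ) : Matrix (Fin n) (Fin m) (ZMod 2) :=
  Matrix.of fun i j => bitZ ((A.getD i.val 0).testBit j.val)

theorem toMatR_mul {n k m : ℕ} {A B : List ℕ} (hA : A.length = n) (hB : B.length = k) :
    toMatR n m (mmulB A B) = toMatR n k A * toMatR k m B := by
  subst hB
  refine Matrix.ext fun i j => ?_
  have hi : i.val < A.length := by rw [hA]; exact i.isLt
  simp only [toMatR, Matrix.mul_apply, Matrix.of_apply, mmulB]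
  rw [List.getD_eq_getElem _ _ (by simpa using hi), List.getElem_map, vmB_spec,
    List.getD_eq_getElem _ _ hi]
  refine Finset.sum_congr rfl fun q _ => ?_
  rw [List.getD_eq_getElem _ _ q.isLt]

theorem toMatR_sq (n : ℕ) (A : List ℕ) : toMatR n n A = toMatB n A := rfl

/-- The sum of two lists of rows. -/
def addB (A B : List ℕ) : List ℕ := List.zipWith Nat.xor A B

theorem length_addB {n : ℕ} {A B : List ℕ} (hA : A.length = n) (hB : B.length = n) : (addB A B).length = n := by
  simp [addB, hA, hB]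

theorem toMatB_add {n : ℕ} {A B : List ℕ} (hA : A.length = n) (hB : B.length = n) :
    toMatB n (addB A B) = toMatB n A + toMatB n B := by
  refine Matrix.ext fun i j => ?_
  have h1 : i.val < A.length := by rw [hA]; exact i.isLt
  have h2 : i.val < B.length := by rw [hB]; exact i.isLt
  have h3 : i.val < (addB A B).length := by rw [length_addB hA hB]; exact i.isLt
  simp only [toMatB, Matrix.add_apply, Matrix.of_apply]
  rw [List.getD_eq_getElem _ _ h1, List.getD_eq_getElem _ _ h2, List.getD_eq_getElem _ _ h3, ← bitZ_xor]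
  simp [addB, List.getElem_zipWith, ← Nat.testBit_xor]

/-- The fixed vectors of a set of matrices. -/
def fixM (s : Set U112) : Submodule (ZMod 2) V112 where
  carrier := {v | ∀ u ∈ s, v ᵥ* (u : Matrix (Fin 112) (Fin 112) (ZMod 2)) = v}
  add_mem' := fun ha hb u hu => by rw [Matrix.add_vecMul, ha u hu, hb u hu]
  zero_mem' := fun u _ => Matrix.zero_vecMul _
  smul_mem' := fun c v hv u hu => by rw [Matrix.smul_vecMul, hv u hu]

theorem mem_fixM {s : Set U112} {v : V112} :
    v ∈ fixM s ↔ ∀ u ∈ s, v ᵥ* (u : Matrix (Fin 112) (Fin 112) (ZMod 2)) = v := Iff.rfl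

/-- The check of a basis of the fixed vectors. -/
def fixCertB (d : ℕ) (A Q P T : List ℕ) : Bool :=
  Nat.beq Q.length d && Nat.beq P.length 112 && Nat.beq T.length 112 && Nat.beq A.length 112 &&
    (mmulB Q A == Q) && (mmulB Q P == idB d) &&
    (mmulB P Q == addB (idB 112) (mmulB (addB A (idB 112)) T))

theorem toMatR_id (d : ℕ) : toMatR d d (idB d) = 1 := by rw [toMatR_sq, toMatB_id]

theorem card_fixM_cert {d : ℕ} {A Q P T : List ℕ} (h : fixCertB d A Q P T = true) {u : U112}
    (hu : (u : Matrix (Fin 112) (Fin 112) (ZMod 2)) = toMatB 112 A) :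
    Nat.card (fixM {u}) = 2 ^ d := by
  simp only [fixCertB, Bool.and_eq_true, Nat.beq_eq] at h
  obtain ⟨⟨⟨⟨⟨⟨lQ, lP⟩, lT⟩, lA⟩, eQA⟩, eQP⟩, ePQ⟩ := h
  have hid : (idB 112).length = 112 := by simp [idB]
  have q1 : toMatR d 112 Q * toMatB 112 A = toMatR d 112 Q := by
    rw [← toMatR_sq, ← toMatR_mul lQ lA, eq_of_beq eQA]
  have q2 : toMatR d 112 Q * toMatR 112 d P = 1 := by
    rw [← toMatR_mul lQ lP, eq_of_beq eQP, toMatR_id]
  have q3 : toMatR 112 d P * toMatR d 112 Q = 1 + (toMatB 112 A + 1) * toMatB 112 T := by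
    rw [← toMatR_mul lP lQ, eq_of_beq ePQ, toMatR_sq,
      toMatB_add hid ((length_mmulB _ _).trans (length_addB lA hid)),
      toMatB_mul (length_addB lA hid) lT, toMatB_add lA hid, toMatB_id]
  let e : fixM {u} ≃ (Fin d → ZMod 2) :=
    { toFun := fun v => (v : V112) ᵥ* toMatR 112 d P
      invFun := fun c => ⟨c ᵥ* toMatR d 112 Q, fun w hw => by
        rw [Set.mem_singleton_iff.1 hw, hu, Matrix.vecMul_vecMul, q1]⟩
      left_inv := fun v => by
        refine Subtype.ext ?_
        have hv : (v : V112) ᵥ* toMatB 112 A = v := by rw [← hu]; exact v.2 u rfl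
        show ((v : V112) ᵥ* toMatR 112 d P) ᵥ* toMatR d 112 Q = v
        have hz : (v : V112) + (v : V112) = 0 := funext fun i => by
          rw [Pi.add_apply, Pi.zero_apply]; exact CharTwo.add_self_eq_zero _
        rw [Matrix.vecMul_vecMul, q3, Matrix.vecMul_add, Matrix.vecMul_one, ← Matrix.vecMul_vecMul,
          Matrix.vecMul_add, Matrix.vecMul_one, hv, hz, Matrix.zero_vecMul, add_zero]
      right_inv := fun c => by
        show (c ᵥ* toMatR d 112 Q) ᵥ* toMatR 112 d P = c
        rw [Matrix.vecMul_vecMul, q2, Matrix.vecMul_one] }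
  rw [Nat.card_congr e, Nat.card_fun, Nat.card_eq_fintype_card, Nat.card_eq_fintype_card, ZMod.card,
    Fintype.card_fin]

theorem fixM_union (s t : Set U112) : fixM (s ∪ t) = fixM s ⊓ fixM t := by
  ext v
  simp [mem_fixM, or_imp, forall_and]

theorem fixM_conj (c : U112) (s : Set U112) :
    Nat.card (fixM ((fun u => c⁻¹ * u * c) '' s)) = Nat.card (fixM s) := by
  have key : ∀ (c : U112) (s : Set U112) (v : V112), v ∈ fixM s →
      v ᵥ* (c : Matrix (Fin 112) (Fin 112) (ZMod 2)) ∈ fixM ((fun u => c⁻¹ * u * c) '' s) := by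
    rintro c s v hv _ ⟨u, hu, rfl⟩
    rw [Units.val_mul, Units.val_mul, Matrix.vecMul_vecMul, ← mul_assoc, ← mul_assoc, Units.mul_inv, one_mul,
      ← Matrix.vecMul_vecMul, hv u hu]
  have back : ∀ w : fixM ((fun u => c⁻¹ * u * c) '' s), (w : V112) ᵥ* (c⁻¹ : U112).val ∈ fixM s := fun w => by
    have h := key c⁻¹ _ w w.2
    rwa [Set.image_image, Set.image_congr (g := id) (fun u _ => by simp [mul_assoc]), Set.image_id] at h
  refine (Nat.card_congr ⟨fun v => ⟨_, key c s v v.2⟩, fun w => ⟨_, back w⟩, fun v => ?_, fun w => ?_⟩).symm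
  · exact Subtype.ext (by simp [Matrix.vecMul_vecMul])
  · exact Subtype.ext (by simp [Matrix.vecMul_vecMul])

theorem fixM_eq_of_powers {u w : U112} (h1 : w ∈ Subgroup.zpowers u) (h2 : u ∈ Subgroup.zpowers w) :
    fixM {u} = fixM {w} := by
  have key : ∀ a b : U112, b ∈ Subgroup.zpowers a → fixM {a} ≤ fixM {b} := by
    intro a b hb v hv
    let K : Subgroup U112 :=
      { carrier := {g | v ᵥ* (g : Matrix (Fin 112) (Fin 112) (ZMod 2)) = v}
        one_mem' := by simp
        mul_mem' := fun {g g'} hg hg' => by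
          show v ᵥ* _ = v
          rw [Units.val_mul, ← Matrix.vecMul_vecMul, hg, hg']
        inv_mem' := fun {g} hg => by
          show v ᵥ* _ = v
          conv_lhs => rw [← show v ᵥ* (g : Matrix (Fin 112) (Fin 112) (ZMod 2)) = v from hg]
          rw [Matrix.vecMul_vecMul, Units.mul_inv, Matrix.vecMul_one] }
    have : Subgroup.zpowers a ≤ K := Subgroup.zpowers_le.2 (hv a rfl)
    exact fun q hq => by rw [Set.mem_singleton_iff.1 hq]; exact this hb
  exact le_antisymm (key u w h1) (key w u h2)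

/-- The condition on the fixed spaces of two commuting elements of prime order. -/
def pairOk (r s dx dy : ℕ) : Bool :=
  (List.range (min dx dy + 1)).all fun a => !(Nat.beq (2 ^ dx % s) (2 ^ a % s) && Nat.beq (2 ^ dy % r) (2 ^ a % r))

theorem not_commute {r s dx dy : ℕ} [Fact r.Prime] [Fact s.Prime] (hok : pairOk r s dx dy = true) {u w : U112}
    (hu : u ^ r = 1) (hw : w ^ s = 1) (hx : Nat.card (fixM {u}) = 2 ^ dx) (hy : Nat.card (fixM {w}) = 2 ^ dy) :
    ¬ Commute u w := by
  classical
  intro hc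
  haveI : Fact (Nat.Prime 2) := ⟨Nat.prime_two⟩
  have hpow : ∀ W : Submodule (ZMod 2) V112, Nat.card W = 2 ^ Module.finrank (ZMod 2) W := fun W => by
    rw [Module.natCard_eq_pow_finrank (K := ZMod 2), Nat.card_zmod]
  have act : ∀ (p : ℕ) [Fact p.Prime] (a b : U112), Commute a b → b ^ p = 1 →
      Nat.card (fixM {a}) ≡ Nat.card (fixM ({a} ∪ {b}) : Submodule (ZMod 2) V112) [MOD p] := by
    intro p _ a b hab hb
    have hstep : ∀ v : V112, v ∈ fixM {a} → v ᵥ* (b : Matrix (Fin 112) (Fin 112) (ZMod 2)) ∈ fixM {a} := by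
      intro v hv q hq
      rw [Set.mem_singleton_iff.1 hq, Matrix.vecMul_vecMul, ← Units.val_mul, ← hab.eq, Units.val_mul,
        ← Matrix.vecMul_vecMul, hv a rfl]
    let f : Function.End ↥(fixM {a}) := fun v => ⟨_, hstep v v.2⟩
    have hf : ∀ v : fixM {a}, ((f v : fixM {a}) : V112) = (v : V112) ᵥ* (b : Matrix (Fin 112) (Fin 112) (ZMod 2)) :=
      fun v => rfl
    have hit : ∀ (n : ℕ) (v : fixM {a}), ((f^[n] v : fixM {a}) : V112) =
        (v : V112) ᵥ* ((b ^ n : U112) : Matrix (Fin 112) (Fin 112) (ZMod 2)) := by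
      intro n
      induction n with
      | zero => intro v; rw [pow_zero, Units.val_one, Matrix.vecMul_one]; rfl
      | succ n ih =>
        intro v
        rw [Function.iterate_succ_apply', pow_succ, Units.val_mul, ← Matrix.vecMul_vecMul, ← ih]
    have hpw : ∀ n : ℕ, f ^ n = f^[n] := by
      intro n
      induction n with
      | zero => simp [pow_zero]; rfl
      | succ n ih => rw [pow_succ', Function.iterate_succ', ← ih]; rfl
    have hσ : f ^ p ^ 1 = 1 := by
      rw [pow_one, hpw]
      funext v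
      refine Subtype.ext ?_
      rw [hit, hb, Units.val_one, Matrix.vecMul_one]
      rfl
    letI := Fintype.ofFinite (fixM {a})
    have h := Equiv.Perm.card_fixedPoints_modEq hσ
    rw [← Nat.card_eq_fintype_card, ← Nat.card_eq_fintype_card] at h
    refine h.trans ?_
    rw [Nat.card_congr (Equiv.mk (α := Function.fixedPoints f) (β := fixM ({a} ∪ {b}))
      (fun v => ⟨((v : fixM {a}) : V112), by
        rintro q (hq | hq) <;> rw [Set.mem_singleton_iff.1 hq]
        · exact (v : fixM {a}).2 a rfl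
        · have e : f (v : fixM {a}) = (v : fixM {a}) := v.2
          exact (hf _).symm.trans (congrArg Subtype.val e)⟩)
      (fun v => ⟨⟨(v : V112), fun q hq => v.2 q (Or.inl hq)⟩, Subtype.ext ((hf _).trans (v.2 b (Or.inr rfl)))⟩)
      (fun v => rfl) (fun v => rfl))]
  have k1 := act s u w hc hw
  have k2 := act r w u hc.symm hu
  rw [Set.union_comm] at k2
  rw [hx, hpow] at k1
  rw [hy, hpow] at k2
  set a := Module.finrank (ZMod 2) (fixM ({u} ∪ {w}))
  have hle : ∀ (d : ℕ) (z : U112), z ∈ ({u} ∪ {w} : Set U112) → Nat.card (fixM {z}) = 2 ^ d → a ≤ d := by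
    intro d z hz hd
    rw [hpow] at hd
    rw [← Nat.pow_right_injective le_rfl hd]
    exact Submodule.finrank_mono fun v hv q hq => hv q (by rw [Set.mem_singleton_iff.1 hq]; exact hz)
  have h1 := List.all_eq_true.1 hok a (List.mem_range.2 (Nat.lt_succ_of_le
    (le_min (hle dx u (Or.inl rfl) hx) (hle dy w (Or.inr rfl) hy))))
  simp only [Bool.not_eq_true', Bool.and_eq_false_iff] at h1
  rcases h1 with h1 | h1
  · exact Bool.false_ne_true (h1.symm.trans (by rw [Nat.beq_eq]; exact k1 : Nat.beq (2 ^ dx % s) (2 ^ a % s) = true))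
  · exact Bool.false_ne_true (h1.symm.trans (by rw [Nat.beq_eq]; exact k2 : Nat.beq (2 ^ dy % r) (2 ^ a % r) = true))

end CfsgLib.J4Local
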