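import Cfsg.Agent.Lib.Classical22.PGLMaxTools

/-!
# Three elements with the relations of PGL(2, 23) generate a copy of it
-/

set_option autoImplicit false

namespace CfsgLib.J4Local

open Matrix CfsgLib.Classical CfsgLib.Classical.Dickson CfsgLib.Transfer
open scoped MatrixGroups LinearAlgebra.Projectivization

/-- The relations. -/
structure Rels {G : Type*} [Group G] (x h w : G) : Prop where
  hx : x ^ 23 = 1
  hh : h ^ 22 = 1
  hc : h * x = x ^ 5 * h
  hw : w * w = 1
  hwh : w * h * w = h ^ 21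
  tri : w * x * w = x ^ 22 * w * x ^ 22

section Bound

variable {G : Type*} [Group G] {x h w : G} (R : Rels x h w)

include R

theorem Rels.hpow (i : ℕ) : h * x ^ i = x ^ (5 * i) * h := by
  induction i with
  | zero => simp
  | succ i ih => rw [pow_succ, ← mul_assoc, ih, mul_assoc, R.hc, ← mul_assoc, ← pow_add, Nat.mul_succ]

theorem Rels.hxmove : ∀ n i : ℕ, h ^ n * x ^ i = x ^ (5 ^ n * i) * h ^ n
  | 0, i => by simp
  | n + 1, i => by
    rw [pow_succ, mul_assoc, R.hpow, ← mul_assoc, Rels.hxmove n (5 * i), mul_assoc]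
    congr 2
    rw [pow_succ, mul_assoc]

theorem Rels.xmod (i : ℕ) : x ^ i = x ^ (i % 23) := pow_eq_pow_mod i R.hx

theorem Rels.hmod (i : ℕ) : h ^ i = h ^ (i % 22) := pow_eq_pow_mod i R.hh

theorem Rels.xhmove (j n : ℕ) : x ^ j * h ^ n = h ^ n * x ^ (5 ^ (21 * n) * j) := by
  have h1 : 5 ^ (22 * n) % 23 = 1 := by
    rw [pow_mul, Nat.pow_mod, show (5 ^ 22 : ℕ) % 23 = 1 by norm_num, one_pow, Nat.one_mod]
  rw [R.hxmove, ← mul_assoc (5 ^ n), ← pow_add, show n + 21 * n = 22 * n by ring, R.xmod (5 ^ (22 * n) * j),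
    Nat.mul_mod, h1, one_mul, Nat.mod_mod, ← R.xmod]

theorem Rels.whn : ∀ n : ℕ, w * h ^ n = h ^ (21 * n) * w
  | 0 => by simp
  | n + 1 => by
    rw [pow_succ, ← mul_assoc, Rels.whn n, mul_assoc]
    rw [show w * h = h ^ 21 * w from by rw [← R.hwh, mul_assoc _ w w, R.hw, mul_one]]
    rw [← mul_assoc, ← pow_add, Nat.mul_succ]

/-- The elements in normal form. -/
def inForm (x h w g : G) : Prop :=
  (∃ i k : ℕ, g = x ^ i * h ^ k) ∨ ∃ i k j : ℕ, g = x ^ i * h ^ k * w * x ^ j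

theorem Rels.form_x {g : G} (hg : inForm x h w g) : inForm x h w (x * g) := by
  rcases hg with ⟨i, k, rfl⟩ | ⟨i, k, j, rfl⟩
  · exact Or.inl ⟨i + 1, k, by rw [← mul_assoc, ← pow_succ']⟩
  · exact Or.inr ⟨i + 1, k, j, by simp only [← mul_assoc, ← pow_succ']⟩

theorem Rels.form_h {g : G} (hg : inForm x h w g) : inForm x h w (h * g) := by
  rcases hg with ⟨i, k, rfl⟩ | ⟨i, k, j, rfl⟩
  · exact Or.inl ⟨5 * i, k + 1, by rw [← mul_assoc, R.hpow, mul_assoc, ← pow_succ']⟩
  · exact Or.inr ⟨5 * i, k + 1, j, by rw [← mul_assoc, ← mul_assoc, ← mul_assoc, R.hpow, mul_assoc (x ^ _) h, ← pow_succ']⟩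

theorem Rels.move_right (j n : ℕ) : ∃ j' : ℕ, w * (x ^ j * h ^ n) = h ^ (21 * n) * w * x ^ j' :=
  ⟨_, by rw [R.xhmove, ← mul_assoc, R.whn]⟩

theorem Rels.form_w {g : G} (hg : inForm x h w g) : inForm x h w (w * g) := by
  rcases hg with ⟨i, k, rfl⟩ | ⟨i, k, j, rfl⟩
  · obtain ⟨j', e⟩ := R.move_right i k
    exact Or.inr ⟨0, 21 * k, j', by rw [e, pow_zero, one_mul]⟩
  · by_cases hi : i % 23 = 0
    · refine Or.inl ⟨5 ^ (21 * k) * j, 21 * k, ?_⟩
      rw [R.xmod i, hi, pow_zero, one_mul, ← mul_assoc, ← mul_assoc, R.whn, mul_assoc _ w w, R.hw, mul_one,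
        R.hxmove]
    · have key : ∀ r : Fin 23, r.val ≠ 0 → ∃ m : Fin 22, 5 ^ m.val % 23 = r.val := by decide +kernel
      obtain ⟨m, hm⟩ := key ⟨i % 23, Nat.mod_lt _ (by norm_num)⟩ hi
      simp only at hm
      have e1 : x ^ i = h ^ (m : ℕ) * x * h ^ (21 * (m : ℕ)) := by
        have hxm := R.hxmove m 1
        rw [pow_one, mul_one] at hxm
        rw [hxm, mul_assoc, ← pow_add, show (m : ℕ) + 21 * m = 22 * m by ring, pow_mul, R.hh, one_pow,
          mul_one, R.xmod i, R.xmod (5 ^ (m : ℕ)), hm]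
      have e2 : w * x ^ i * w = h ^ (21 * (m : ℕ)) * x ^ 22 * w * x ^ 22 * h ^ (m : ℕ) := by
        have e3 : h ^ (21 * (m : ℕ)) * w = w * h ^ (m : ℕ) := (R.whn m).symm
        rw [e1]
        calc w * (h ^ (m : ℕ) * x * h ^ (21 * (m : ℕ))) * w
            = w * h ^ (m : ℕ) * x * (h ^ (21 * (m : ℕ)) * w) := by simp only [mul_assoc]
          _ = h ^ (21 * (m : ℕ)) * (w * x * w) * h ^ (m : ℕ) := by
              have e5 : w * h ^ (m : ℕ) * x = h ^ (21 * (m : ℕ)) * (w * x) := by rw [R.whn, mul_assoc]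
              rw [e5, e3]; simp only [mul_assoc]
          _ = _ := by rw [R.tri]; group
      obtain ⟨j', e4⟩ := R.move_right 22 ((m : ℕ) + 21 * k)
      refine Or.inr ⟨5 ^ (21 * (m : ℕ)) * 22, 21 * m + 21 * ((m : ℕ) + 21 * k), j' + j, ?_⟩
      calc w * (x ^ i * h ^ k * w * x ^ j) = w * x ^ i * w * (w * h ^ k) * w * x ^ j := by
            simp only [mul_assoc]
            rw [← mul_assoc w w, R.hw, one_mul]
        _ = (h ^ (21 * (m : ℕ)) * x ^ 22) * (w * (x ^ 22 * h ^ ((m : ℕ) + 21 * k))) * x ^ j := by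
            rw [e2, R.whn k, pow_add]
            simp only [mul_assoc]
            rw [← mul_assoc w w, R.hw, one_mul]
        _ = _ := by
            rw [e4, R.hxmove, pow_add x j' j, pow_add h (21 * (m : ℕ))]
            simp only [mul_assoc]

theorem Rels.mem_form {g : G} (hg : g ∈ Subgroup.closure {x, h, w}) : inForm x h w g := by
  have hpowg : ∀ (a : G), (∀ u, inForm x h w u → inForm x h w (a * u)) → ∀ n u, inForm x h w u →
      inForm x h w (a ^ n * u) := by
    intro a ha n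
    induction n with
    | zero => intro u hu; simpa using hu
    | succ n ih => intro u hu; rw [pow_succ', mul_assoc]; exact ha _ (ih u hu)
  induction hg using Subgroup.closure_induction_left with
  | one => exact Or.inl ⟨0, 0, by simp⟩
  | mul_left a ha u _ hu =>
    rcases ha with ha | ha | ha <;> rw [ha]
    · exact R.form_x hu
    · exact R.form_h hu
    · exact R.form_w hu
  | inv_mul_cancel a ha u _ hu =>
    rcases ha with ha | ha | ha <;> rw [ha]
    · rw [show x⁻¹ = x ^ 22 from inv_eq_of_mul_eq_one_right (by rw [← pow_succ', R.hx])]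
      exact hpowg _ (fun v hv => R.form_x hv) 22 u hu
    · rw [show h⁻¹ = h ^ 21 from inv_eq_of_mul_eq_one_right (by rw [← pow_succ', R.hh])]
      exact hpowg _ (fun v hv => R.form_h hv) 21 u hu
    · rw [show w⁻¹ = w from inv_eq_of_mul_eq_one_right R.hw]
      exact R.form_w hu

theorem Rels.card_le : Finite (Subgroup.closure {x, h, w}) ∧
    Nat.card (Subgroup.closure {x, h, w}) ≤ 12144 := by
  let f : (Fin 23 × Fin 22) ⊕ (Fin 23 × Fin 22 × Fin 23) → G :=
    Sum.elim (fun p => x ^ p.1.val * h ^ p.2.val) (fun p => x ^ p.1.val * h ^ p.2.1.val * w * x ^ p.2.2.val)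
  have hsub : (Subgroup.closure {x, h, w} : Set G) ⊆ Set.range f := by
    intro g hg
    rcases R.mem_form hg with ⟨i, k, rfl⟩ | ⟨i, k, j, rfl⟩
    · exact ⟨Sum.inl (⟨i % 23, Nat.mod_lt _ (by norm_num)⟩, ⟨k % 22, Nat.mod_lt _ (by norm_num)⟩), by
        simp only [f, Sum.elim_inl, ← R.xmod, ← R.hmod]⟩
    · exact ⟨Sum.inr (⟨i % 23, Nat.mod_lt _ (by norm_num)⟩, ⟨k % 22, Nat.mod_lt _ (by norm_num)⟩,
        ⟨j % 23, Nat.mod_lt _ (by norm_num)⟩), by simp only [f, Sum.elim_inr, ← R.xmod, ← R.hmod]⟩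
  have hfin : (Set.range f).Finite := Set.finite_range f
  refine ⟨(hfin.subset hsub).to_subtype, ?_⟩
  calc Nat.card (Subgroup.closure {x, h, w}) ≤ Nat.card (Set.range f) := Nat.card_mono hfin hsub
    _ ≤ Nat.card ((Fin 23 × Fin 22) ⊕ (Fin 23 × Fin 22 × Fin 23)) := Finite.card_range_le f
    _ = 12144 := by simp

end Bound

instance : Fact (Nat.Prime 23) := ⟨by norm_num⟩

/-- The first model element. -/
def mx : Matrix.ProjGenLinGroup (Fin 2) (ZMod 23) := aff 1 1

/-- The second model element. -/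
def mh : Matrix.ProjGenLinGroup (Fin 2) (ZMod 23) := aff (Units.mk0 5 (by decide)) 0

/-- The third model element. -/
def mw : Matrix.ProjGenLinGroup (Fin 2) (ZMod 23) :=
  Matrix.ProjGenLinGroup.mk (Matrix.GeneralLinearGroup.mkOfDetNeZero !![0, -1; 1, 0] (by simp [Matrix.det_fin_two]))

theorem aff_diag_pow (a : (ZMod 23)ˣ) : ∀ n : ℕ, aff a (0 : ZMod 23) ^ n = aff (a ^ n) 0
  | 0 => by simp [aff_one]
  | n + 1 => by rw [pow_succ, aff_diag_pow a n, aff_mul, pow_succ, mul_zero, add_zero]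

theorem model_rels : Rels mx mh mw := by
  refine ⟨?_, ?_, ?_, ?_, ?_, ?_⟩
  · rw [mx, aff_one_pow]
    exact aff_eq_one.2 ⟨rfl, by decide⟩
  · rw [mh, aff_diag_pow]
    exact aff_eq_one.2 ⟨Units.ext (by simp only [Units.val_pow_eq_pow_val, Units.val_mk0, Units.val_one]; decide), rfl⟩
  · rw [mx, mh, aff_mul, aff_one_pow, aff_mul]
    refine congrArg₂ aff (by simp) ?_
    simp only [Units.val_mk0, Units.val_one]
    decide
  · rw [mw, ← map_mul, ← map_one Matrix.ProjGenLinGroup.mk, Matrix.ProjGenLinGroup.mk_eq_mk_iff]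
    refine ⟨-1, Units.ext ?_⟩
    ext i j
    fin_cases i <;> fin_cases j <;>
      simp [Matrix.GeneralLinearGroup.mkOfDetNeZero, Matrix.mul_apply, Fin.sum_univ_two, Matrix.scalar_apply]
  · rw [mh, aff_diag_pow, mw, aff, aff, ← map_mul, ← map_mul, Matrix.ProjGenLinGroup.mk_eq_mk_iff]
    refine ⟨Units.mk0 9 (by decide), Units.ext ?_⟩
    ext i j
    fin_cases i <;> fin_cases j <;>
      simp [Matrix.GeneralLinearGroup.mkOfDetNeZero, Matrix.mul_apply, Fin.sum_univ_two, Matrix.scalar_apply] <;>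
      decide
  · rw [mx, aff_one_pow, mw, aff, aff, ← map_mul, ← map_mul, ← map_mul, ← map_mul,
      Matrix.ProjGenLinGroup.mk_eq_mk_iff]
    refine ⟨1, Units.ext ?_⟩
    ext i j
    fin_cases i <;> fin_cases j <;>
      simp [Matrix.GeneralLinearGroup.mkOfDetNeZero, Matrix.mul_apply, Fin.sum_univ_two, Matrix.scalar_apply] <;>
      decide

theorem model_top : (⊤ : Subgroup (Matrix.ProjGenLinGroup (Fin 2) (ZMod 23))) ≤ Subgroup.closure {mx, mh, mw} := by
  have hx : mx ∈ Subgroup.closure {mx, mh, mw} := Subgroup.subset_closure (by simp)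
  have hh : mh ∈ Subgroup.closure {mx, mh, mw} := Subgroup.subset_closure (by simp)
  have hw : mw ∈ Subgroup.closure {mx, mh, mw} := Subgroup.subset_closure (by simp)
  have hb : ∀ b : ZMod 23, aff (1 : (ZMod 23)ˣ) b ∈ Subgroup.closure {mx, mh, mw} := fun b => by
    have := pow_mem hx b.val
    rwa [mx, aff_one_pow, mul_one, ZMod.natCast_zmod_val] at this
  have ha : ∀ a : (ZMod 23)ˣ, aff a (0 : ZMod 23) ∈ Subgroup.closure {mx, mh, mw} := fun a => by
    have key : ∀ r : ZMod 23, r ≠ 0 → ∃ k : Fin 22, (5 : ZMod 23) ^ k.val = r := by decide +kernel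
    obtain ⟨k, hk⟩ := key a a.ne_zero
    have := pow_mem hh k.val
    rw [mh, aff_diag_pow] at this
    rwa [show a = Units.mk0 (5 : ZMod 23) (by decide) ^ k.val from Units.ext (by simp [hk])]
  have hab : ∀ (a : (ZMod 23)ˣ) (b : ZMod 23), aff a b ∈ Subgroup.closure {mx, mh, mw} := fun a b => by
    have := mul_mem (hb b) (ha a)
    rwa [aff_mul, one_mul, mul_zero, zero_add] at this
  have hw0 : mw • linePt (0 : ZMod 23) = lineInf := by
    rw [mw, linePt, lineInf, Projectivization.PGL.mk_smul_mk, Projectivization.mk_eq_mk_iff']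
    refine ⟨-1, ?_⟩
    ext i
    fin_cases i <;> simp [Units.smul_def, Matrix.GeneralLinearGroup.mkOfDetNeZero, Matrix.smul_eq_mulVec,
      Matrix.mulVec, dotProduct, Fin.sum_univ_two]
  intro g _
  rcases line_cases (g • (lineInf : ℙ (ZMod 23) (Fin 2 → ZMod 23))) with h | ⟨t, h⟩
  · obtain ⟨a, b, rfl⟩ := exists_aff_of_fix_inf h
    exact hab a b
  · have hfix : (mw * aff 1 (-t) * g) • (lineInf : ℙ (ZMod 23) (Fin 2 → ZMod 23)) = lineInf := by
      rw [mul_smul, mul_smul, h, aff_smul_pt]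
      simpa using hw0
    obtain ⟨a, b, e⟩ := exists_aff_of_fix_inf hfix
    rw [show g = (mw * aff 1 (-t))⁻¹ * (mw * aff 1 (-t) * g) by group, e]
    exact mul_mem (inv_mem (mul_mem hw (hb _))) (hab a b)

/-- **Recognition.** -/
theorem exists_pgl {G : Type*} [Group G] {x h w : G} (R : Rels x h w) (hx1 : x ≠ 1) :
    ∃ K : Subgroup G,
      Nonempty (↥K ≃* GL (Fin 2) (ZMod 23) ⧸ Subgroup.center (GL (Fin 2) (ZMod 23))) := by
  let P := Matrix.ProjGenLinGroup (Fin 2) (ZMod 23)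
  have R' : Rels ((mx, x) : P × G) (mh, h) (mw, w) := by
    obtain ⟨a1, a2, a3, a4, a5, a6⟩ := model_rels
    obtain ⟨b1, b2, b3, b4, b5, b6⟩ := R
    exact ⟨Prod.ext a1 b1, Prod.ext a2 b2, Prod.ext a3 b3, Prod.ext a4 b4, Prod.ext a5 b5, Prod.ext a6 b6⟩
  let D : Subgroup (P × G) := Subgroup.closure {(mx, x), (mh, h), (mw, w)}
  obtain ⟨hfin, hD⟩ := R'.card_le
  haveI : Finite D := hfin
  haveI := Classical22.PGLMax.finite_pgl (F := ZMod 23)
  let π : D →* P := (MonoidHom.fst P G).comp D.subtype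
  have hπ : Function.Surjective π := by
    rw [← MonoidHom.range_eq_top, eq_top_iff]
    refine model_top.trans ((Subgroup.closure_le _).2 ?_)
    rintro _ (rfl | rfl | rfl)
    · exact ⟨⟨(mx, x), Subgroup.subset_closure (Or.inl rfl)⟩, rfl⟩
    · exact ⟨⟨(mh, h), Subgroup.subset_closure (Or.inr (Or.inl rfl))⟩, rfl⟩
    · exact ⟨⟨(mw, w), Subgroup.subset_closure (Or.inr (Or.inr rfl))⟩, rfl⟩
  have hP : Nat.card P = 12144 := Dickson.card_pgl (ZMod.card 23)
  have hbij : Function.Bijective π := by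
    refine (Nat.bijective_iff_surjective_and_card π).2 ⟨hπ, le_antisymm ?_ ?_⟩
    · rw [hP]; exact hD
    · exact Nat.card_le_card_of_surjective π hπ
  let e : D ≃* P := MulEquiv.ofBijective π hbij
  let φ : P →* G := ((MonoidHom.snd P G).comp D.subtype).comp e.symm.toMonoidHom
  have hφx : φ mx = x := by
    have : e.symm mx = ⟨(mx, x), Subgroup.subset_closure (Or.inl rfl)⟩ := by
      rw [MulEquiv.symm_apply_eq]; rfl
    show ((e.symm mx : D) : P × G).2 = x
    rw [this]
  have hinj : Function.Injective φ := by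
    rw [← MonoidHom.ker_eq_bot_iff]
    have h4 : 4 ≤ Fintype.card (ZMod 23) := by rw [ZMod.card]; norm_num
    rcases Classical22.PGLMax.le_or_commute h4 (K := φ.ker) inferInstance with hle | hc
    · refine absurd ?_ hx1
      rw [← hφx, ← MonoidHom.mem_ker]
      exact hle (Classical22.PGLMax.aff_one_mem 23 (by norm_num) (by rw [ZMod.card]) 1)
    · exact eq_bot_iff.2 fun k hk => Subgroup.mem_bot.2
        (Classical22.PGLMax.eq_one_of_centralizes 23 (by norm_num) (by rw [ZMod.card]) (hc k hk))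
  exact ⟨φ.range, ⟨(MonoidHom.ofInjective hinj).symm⟩⟩

end CfsgLib.J4Local
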