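import Cfsg.Agent.Lib.J4Local.PGLData
import Cfsg.Agent.Lib.J4Local.PGLRecog
import Cfsg.Agent.Lib.J4Kp.Simple

/-!
# The presented J4 has a subgroup isomorphic to PGL(2, 23)
-/

set_option autoImplicit false
set_option maxRecDepth 100000

namespace CfsgLib.J4Local

open Cfsg.Spor CfsgLib.J4P
open CfsgLib.HNxyz (evalW)

/-- A power of a packed matrix. -/
def powB (A : List ℕ) : ℕ → List ℕ
  | 0 => idB 112
  | n + 1 => mmulB (powB A n) A

theorem length_powB (A : List ℕ) : ∀ n : ℕ, (powB A n).length = 112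
  | 0 => by simp [powB, idB]
  | n + 1 => by rw [powB, length_mmulB, length_powB A n]

theorem toMatB_powB {A : List ℕ} (hA : A.length = 112) :
    ∀ n : ℕ, toMatB 112 (powB A n) = toMatB 112 A ^ n
  | 0 => by rw [powB, toMatB_id, pow_zero]
  | n + 1 => by rw [powB, toMatB_mul (length_powB A n) hA, toMatB_powB hA n, pow_succ]

theorem word_checks :
    ((evalB 112 tabJ wordX == matX) && (evalB 112 tabJ wordH == matH) && (evalB 112 tabJ wordW == matW) &&
      (wordX ++ wordH ++ wordW).all (fun g => Nat.blt g 6) &&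
      Nat.beq matX.length 112 && Nat.beq matH.length 112 && Nat.beq matW.length 112) = true := by
  decide +kernel

theorem rel_checks :
    ((powB matX 23 == idB 112) && (powB matH 22 == idB 112) && (mmulB matH matX == mmulB (powB matX 5) matH) &&
      (mmulB matW matW == idB 112) && (mmulB (mmulB matW matH) matW == powB matH 21) &&
      (mmulB (mmulB matW matX) matW == mmulB (mmulB (powB matX 22) matW) (powB matX 22))
      ) = true := by
  decide +kernel

/-- The value of a word. -/
noncomputable def elw (w : List ℕ) : Cfsg.Spor.J4 := evalW (eltL J4Kp.jl) w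

theorem rho_elw {w : List ℕ} {A : List ℕ} (hw : ∀ g ∈ w, g < 6) (h : (evalB 112 tabJ w == A) = true) :
    ((rho (elw w)) : Matrix (Fin 112) (Fin 112) (ZMod 2)) = toMatB 112 A := by
  obtain ⟨hlen, -, -, -, -, -, ⟨hn, hn'⟩, -⟩ := mat_checks
  simp only [List.all_eq_true, List.mem_range, Bool.and_eq_true, Nat.beq_eq] at hlen
  obtain ⟨-, e⟩ := evalB_spec (G := tabJ) (B := matJ) (n := 112) (by rw [hn, hn'])
    (fun g hg => hlen g (by rw [hn] at hg; exact hg)) (w := w) (fun g hg => by rw [hn]; exact hw g hg)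
  rw [eq_of_beq h] at e
  rw [elw, J4Kp.rho_word hw, e]
  rfl

theorem pgl_rels : Rels (elw wordX) (elw wordH) (elw wordW) ∧ elw wordX ≠ 1 := by
  have hw := word_checks
  simp only [Bool.and_eq_true, List.all_eq_true, List.mem_append, Nat.beq_eq] at hw
  obtain ⟨⟨⟨⟨⟨⟨e1, e2⟩, e3⟩, hlt⟩, l1⟩, l2⟩, l3⟩ := hw
  have vX := rho_elw (fun g hg => Nat.le_of_ble_eq_true (hlt g (Or.inl (Or.inl hg)))) e1
  have vH := rho_elw (fun g hg => Nat.le_of_ble_eq_true (hlt g (Or.inl (Or.inr hg)))) e2
  have vW := rho_elw (fun g hg => Nat.le_of_ble_eq_true (hlt g (Or.inr hg))) e3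
  have hr := rel_checks
  simp only [Bool.and_eq_true] at hr
  obtain ⟨⟨⟨⟨⟨r1, r2⟩, r3⟩, r4⟩, r5⟩, r6⟩ := hr
  have h1 := congrArg (toMatB 112) (eq_of_beq r1)
  have h2 := congrArg (toMatB 112) (eq_of_beq r2)
  have h3 := congrArg (toMatB 112) (eq_of_beq r3)
  have h4 := congrArg (toMatB 112) (eq_of_beq r4)
  have h5 := congrArg (toMatB 112) (eq_of_beq r5)
  have h6 := congrArg (toMatB 112) (eq_of_beq r6)
  simp only [toMatB_id, toMatB_powB l1, toMatB_powB l2, toMatB_mul l3 l2, toMatB_mul l3 l1, toMatB_mul l3 l3,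
    toMatB_mul l2 l1, toMatB_mul (length_powB _ _) l2, toMatB_mul (length_powB _ _) l3,
    toMatB_mul ((length_mmulB _ _).trans l3) l3,
    toMatB_mul ((length_mmulB _ _).trans (length_powB _ _)) (length_powB _ _)] at h1 h2 h3 h4 h5 h6
  have key : ∀ {a b : Cfsg.Spor.J4}, ((rho a) : Matrix (Fin 112) (Fin 112) (ZMod 2)) = (rho b) → a = b :=
    fun h => J4Kp.rho_injective (Units.ext h)
  refine ⟨⟨?_, ?_, ?_, ?_, ?_, ?_⟩, ?_⟩
  · exact key (by rw [map_pow, Units.val_pow_eq_pow_val, vX, map_one, Units.val_one]; exact h1)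
  · exact key (by rw [map_pow, Units.val_pow_eq_pow_val, vH, map_one, Units.val_one]; exact h2)
  · exact key (by rw [map_mul, map_mul, map_pow, Units.val_mul, Units.val_mul, Units.val_pow_eq_pow_val, vX, vH]; exact h3)
  · exact key (by rw [map_mul, Units.val_mul, vW, map_one, Units.val_one]; exact h4)
  · exact key (by rw [map_mul, map_mul, map_pow, Units.val_mul, Units.val_mul, Units.val_pow_eq_pow_val, vW, vH]; exact h5)
  · exact key (by rw [map_mul, map_mul, map_mul, map_mul, map_pow, Units.val_mul, Units.val_mul, Units.val_mul,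
      Units.val_mul, Units.val_pow_eq_pow_val, vW, vX]; exact h6)
  · intro h
    have e := vX
    rw [h, map_one, Units.val_one, ← toMatB_id 112] at e
    have e' := congrArg (fun M => M ⟨0, by norm_num⟩ ⟨2, by norm_num⟩) e
    revert e'
    simp only [toMatB, Matrix.of_apply]
    decide +kernel

/-- **The subgroup.** -/
theorem exists_pgl23 : ∃ K : Subgroup Cfsg.Spor.J4,
    Nonempty (↥K ≃* GL (Fin 2) (ZMod 23) ⧸ Subgroup.center (GL (Fin 2) (ZMod 23))) :=
  exists_pgl pgl_rels.1 pgl_rels.2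

end CfsgLib.J4Local
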