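import Cfsg.Agent.Lib.J4Local.Centralisers

/-!
# The Sylow subgroups of order 23, 29, 31, 37 and 43 by counting

The centraliser and the normaliser are pinned by Sylow's congruence once commuting pairs are excluded.
-/

set_option autoImplicit false
set_option synthInstance.maxSize 20000
set_option synthInstance.maxHeartbeats 400000

namespace CfsgLib.J4Local

open Subgroup

universe u

variable {G : Type u} [Group G] [Finite G]

/-- The order of J4. -/
abbrev cardJ4 : ℕ := 86775571046077562880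

/-- The index of the centraliser in the normaliser of a cyclic subgroup. -/
noncomputable def eOf (x : G) : ℕ :=
  (centralizer ((zpowers x : Subgroup G) : Set G)).relIndex (normalizer ((zpowers x : Subgroup G) : Set G))

theorem card_normalizer_eq (x : G) :
    Nat.card ↥(normalizer ((zpowers x : Subgroup G) : Set G)) =
      Nat.card ↥(centralizer ((zpowers x : Subgroup G) : Set G)) * eOf x := by
  rw [eOf, relIndex, ← Nat.card_congr (subgroupOfEquivOfLe (centralizer_le_normalizer (G := G) ((zpowers x : Subgroup G) : Set G))).toEquiv,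
    card_mul_index]

theorem factorization_one {n p : ℕ} [hp : Fact p.Prime] (hd : p ∣ n) (h : ¬ p ^ 2 ∣ n) : n.factorization p = 1 := by
  have hn : n ≠ 0 := fun h0 => h (h0 ▸ dvd_zero _)
  have a1 := (hp.out.pow_dvd_iff_le_factorization hn).1 (by simpa using hd : p ^ 1 ∣ n)
  have a2 := mt (hp.out.pow_dvd_iff_le_factorization hn).2 h
  omega

theorem pow_eq_self_iff_mod {x : G} {p k : ℕ} (hx : orderOf x = p) (hp1 : 1 < p) : x ^ k = x ↔ k % p = 1 := by
  conv_lhs => rhs; rw [← pow_one x]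
  rw [pow_inj_mod, hx, Nat.mod_eq_of_lt hp1]

theorem local_data (hcard : Nat.card G = cardJ4) {p : ℕ} [hp : Fact p.Prime] (hd : p ∣ cardJ4)
    (hd2 : ¬ p ^ 2 ∣ cardJ4) {x : G} (hx : orderOf x = p) :
    ∃ c : ℕ, Nat.card ↥(centralizer ((zpowers x : Subgroup G) : Set G)) = p * c ∧ ¬ p ∣ c ∧ c ∣ cardJ4 ∧
      eOf x ∣ p - 1 ∧ p * c * eOf x ∣ cardJ4 ∧ cardJ4 / (p * c * eOf x) % p = 1 ∧
      ∀ r : ℕ, r.Prime → r ∣ c → ∃ y : G, orderOf y = r ∧ Commute x y := by
  have hf : (Nat.card G).factorization p = 1 := by rw [hcard]; exact factorization_one hd hd2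
  let U : Sylow p G := Sylow.ofCard (zpowers x) (by rw [Nat.card_zpowers, hx, hf, pow_one])
  have hU : (U : Subgroup G) = zpowers x := rfl
  have hUc : Nat.card ↥(U : Subgroup G) = p := by rw [hU, Nat.card_zpowers, hx]
  have hdvd : p ∣ Nat.card ↥(centralizer ((zpowers x : Subgroup G) : Set G)) := by
    rw [centralizer_zpowers_eq]
    have h := orderOf_dvd_natCard (⟨x, mem_centralizer_singleton_iff.2 rfl⟩ : centralizer ({x} : Set G))
    rwa [Subgroup.orderOf_mk, hx] at h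
  obtain ⟨c, hc⟩ := hdvd
  have hG : Nat.card ↥(centralizer ((zpowers x : Subgroup G) : Set G)) ∣ cardJ4 := hcard ▸ card_subgroup_dvd_card _
  have hN : Nat.card ↥(normalizer ((zpowers x : Subgroup G) : Set G)) = p * c * eOf x := by
    rw [card_normalizer_eq, hc]
  refine ⟨c, hc, ?_, (dvd_mul_left c p).trans (hc ▸ hG), Blocks.PrimeSylow.relIndex_dvd U hUc,
    hN ▸ hcard ▸ card_subgroup_dvd_card _, ?_, ?_⟩
  · intro h
    exact hd2 ((show p ^ 2 ∣ p * c by rw [pow_two]; exact Nat.mul_dvd_mul_left p h).trans (hc ▸ hG))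
  · have h := card_sylow_modEq_one p G
    rw [Sylow.card_eq_index_normalizer U] at h
    rw [← hN, ← hcard, ← card_mul_index (normalizer ((zpowers x : Subgroup G) : Set G)), Nat.mul_div_cancel_left _ Nat.card_pos]
    exact Nat.mod_eq_of_modEq h hp.out.one_lt
  · intro r hr hrc
    haveI := Fact.mk hr
    obtain ⟨⟨y, hy⟩, hyo⟩ := exists_prime_orderOf_dvd_card' (G := centralizer ((zpowers x : Subgroup G) : Set G)) r
      (hc ▸ hrc.trans (dvd_mul_left c p))
    exact ⟨y, by rw [← hyo, Subgroup.orderOf_mk], mem_centralizer_iff.1 hy x (mem_zpowers x)⟩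

theorem strip {c a r k : ℕ} (hr : r.Prime) (h : c ∣ a * r ^ k) (hn : ¬ r ∣ c) : c ∣ a :=
  (((hr.coprime_iff_not_dvd.2 hn).symm).pow_right k).dvd_of_dvd_mul_right h

theorem dvd_eOf {x h : G} {p m a : ℕ} (hx : orderOf x = p) (hp1 : 1 < p) (hh : h * x * h⁻¹ = x ^ a)
    (ha : ∀ o : ℕ, a ^ o % p = 1 → m ∣ o) (ha1 : ∃ b : ℕ, a * b % p = 1) : m ∣ eOf x := by
  set N := normalizer ((zpowers x : Subgroup G) : Set G)
  set C := centralizer ((zpowers x : Subgroup G) : Set G)
  have hN : h ∈ N := by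
    obtain ⟨b, hb⟩ := ha1
    have key : zpowers (h * x * h⁻¹) = zpowers x := by
      refine le_antisymm (zpowers_le.2 (hh ▸ pow_mem (mem_zpowers x) a)) (zpowers_le.2 ?_)
      have : (h * x * h⁻¹) ^ b = x := by
        rw [hh, ← pow_mul, ← pow_mod_orderOf, hx, hb, pow_one]
      have h2 := pow_mem (mem_zpowers (h * x * h⁻¹)) b
      rwa [this] at h2
    refine mem_normalizer_iff.2 fun g => ⟨fun hg => ?_, fun hg => ?_⟩
    · obtain ⟨i, rfl⟩ := mem_zpowers_iff.1 hg
      rw [← conj_zpow]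
      exact key ▸ zpow_mem (mem_zpowers _) i
    · rw [← key] at hg
      obtain ⟨i, hi⟩ := mem_zpowers_iff.1 hg
      rw [conj_zpow, mul_left_inj, mul_right_inj] at hi
      exact hi ▸ zpow_mem (mem_zpowers x) i
  haveI : (C.subgroupOf N).Normal := by
    rw [← normalizerMonoidHom_ker]; infer_instance
  have hpow : ∀ n : ℕ, h ^ n * x * (h ^ n)⁻¹ = x ^ (a ^ n) := by
    intro n
    induction n with
    | zero => simp
    | succ n ih =>
      calc h ^ (n + 1) * x * (h ^ (n + 1))⁻¹ = h * (h ^ n * x * (h ^ n)⁻¹) * h⁻¹ := by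
            rw [pow_succ']; group
        _ = (h * x * h⁻¹) ^ (a ^ n) := by rw [ih, conj_pow]
        _ = x ^ (a ^ (n + 1)) := by rw [hh, ← pow_mul, pow_succ']
  set q := QuotientGroup.mk' (C.subgroupOf N) ⟨h, hN⟩
  have ho : q ^ orderOf q = 1 := pow_orderOf_eq_one q
  rw [← map_pow, ← MonoidHom.mem_ker, QuotientGroup.ker_mk', mem_subgroupOf] at ho
  have hcomm : h ^ orderOf q * x * (h ^ orderOf q)⁻¹ = x := by
    have h1 := mem_centralizer_iff.1 ho x (mem_zpowers x)
    simp only [SubmonoidClass.coe_pow] at h1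
    rw [← h1, mul_inv_cancel_right]
  rw [hpow, pow_eq_self_iff_mod hx hp1] at hcomm
  exact (ha _ hcomm).trans (by rw [eOf, relIndex, index_eq_card]; exact orderOf_dvd_natCard q)

theorem small_c {c a : ℕ} (h : c ∣ 11 ^ 3 * a) (ha : a.Prime ∨ a = 1) :
    ∃ i, i < 4 ∧ (c = 11 ^ i ∨ c = 11 ^ i * a) := by
  obtain ⟨u, v, hu, hv, rfl⟩ := Nat.dvd_mul.1 h
  obtain ⟨i, hi, rfl⟩ := (Nat.dvd_prime_pow (by norm_num : Nat.Prime 11)).1 hu
  refine ⟨i, by omega, ?_⟩
  rcases ha with ha | rfl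
  · rcases (Nat.dvd_prime ha).1 hv with rfl | rfl
    · exact Or.inl (mul_one _)
    · exact Or.inr rfl
  · obtain rfl := Nat.dvd_one.1 hv
    exact Or.inl (mul_one _)

/-- The condition of Sylow's congruence. -/
def sylOk (p c e : ℕ) : Bool :=
  Nat.beq (cardJ4 % (p * c * e)) 0 && Nat.beq (cardJ4 / (p * c * e) % p) 1

theorem pick23 : ∀ i < 4, ∀ j < 2, ∀ e < 23, sylOk 23 (11 ^ i * 31 ^ j) e = true → 22 % e = 0 → e % 22 = 0 →
    i = 0 ∧ j = 0 ∧ e = 22 := by decide +kernel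

theorem pick31 : ∀ i < 4, ∀ e < 31, sylOk 31 (11 ^ i) e = true → 30 % e = 0 → e % 2 = 0 → i = 0 ∧ e = 10 := by
  decide +kernel

theorem pick37 : ∀ i < 4, ∀ e < 37, sylOk 37 (11 ^ i) e = true → 36 % e = 0 → i = 0 ∧ e = 12 := by decide +kernel

theorem pick29 : ∀ i < 4, ∀ j < 2, ∀ e < 29, sylOk 29 (11 ^ i * 43 ^ j) e = true → 28 % e = 0 →
    (i = 0 ∧ j = 0 ∧ e = 28) ∨ (i = 0 ∧ j = 1 ∧ e = 2) := by decide +kernel

theorem pick43 : ∀ i < 4, ∀ j < 2, ∀ e < 43, sylOk 43 (11 ^ i * 29 ^ j) e = true → 42 % e = 0 →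
    (i = 0 ∧ j = 0 ∧ e = 14) ∨ (i = 0 ∧ j = 1 ∧ e = 42) := by decide +kernel

theorem sylOk_of {p c e : ℕ} (h1 : p * c * e ∣ cardJ4) (h2 : cardJ4 / (p * c * e) % p = 1) :
    sylOk p c e = true := by
  simp only [sylOk, Bool.and_eq_true, Nat.beq_eq]
  exact ⟨Nat.dvd_iff_mod_eq_zero.1 h1, h2⟩

/-- The hypotheses on commuting pairs and witnesses. -/
structure Input (G : Type u) [Group G] : Prop where
  card : Nat.card G = cardJ4
  small : ∀ p ∈ ([23, 29, 31, 37, 43] : List ℕ), ∀ x y : G, orderOf x = p → ∀ r ∈ ([2, 3, 5, 7] : List ℕ),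
    orderOf y = r → ¬ Commute x y
  pairs : ∀ p q : ℕ, (p, q) ∈ ([(23, 29), (23, 37), (23, 43), (29, 31), (29, 37), (31, 37), (31, 43), (37, 43)] : List (ℕ × ℕ)) →
    ∀ x y : G, orderOf x = p → orderOf y = q → ¬ Commute x y
  wit23 : ∃ x h : G, orderOf x = 23 ∧ h * x * h⁻¹ = x ^ 5
  wit31 : ∃ x h : G, orderOf x = 31 ∧ h * x * h⁻¹ = x ^ 30

theorem Input.exclude (I : Input G) {p : ℕ} (hp : p ∈ ([23, 29, 31, 37, 43] : List ℕ)) {x : G}
    (hx : orderOf x = p) {c : ℕ} (hc : ∀ r : ℕ, r.Prime → r ∣ c → ∃ y : G, orderOf y = r ∧ Commute x y)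
    (hcd : c ∣ cardJ4) : c ∣ 11 ^ 3 * 23 * 29 * 31 * 37 * 43 := by
  have ns : ∀ r ∈ ([2, 3, 5, 7] : List ℕ), r.Prime → ¬ r ∣ c := fun r hr hrp hrc => by
    obtain ⟨y, hy, hxy⟩ := hc r hrp hrc
    exact I.small p hp x y hx r hr hy hxy
  have h : c ∣ 11 ^ 3 * 23 * 29 * 31 * 37 * 43 * 2 ^ 21 * 3 ^ 3 * 5 ^ 1 * 7 ^ 1 := hcd.trans (by norm_num)
  exact strip Nat.prime_two (strip Nat.prime_three (strip (by norm_num) (strip (by norm_num) h
    (ns 7 (by simp) (by norm_num))) (ns 5 (by simp) (by norm_num))) (ns 3 (by simp) Nat.prime_three))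
    (ns 2 (by simp) Nat.prime_two)

theorem Input.no_pair (I : Input G) {p q : ℕ}
    (h : (p, q) ∈ ([(23, 29), (23, 37), (23, 43), (29, 31), (29, 37), (31, 37), (31, 43), (37, 43)] : List (ℕ × ℕ)) ∨
      (q, p) ∈ ([(23, 29), (23, 37), (23, 43), (29, 31), (29, 37), (31, 37), (31, 43), (37, 43)] : List (ℕ × ℕ)))
    {x : G} (hx : orderOf x = p) {c : ℕ} (hc : ∀ r : ℕ, r.Prime → r ∣ c → ∃ y : G, orderOf y = r ∧ Commute x y)
    (hq : q.Prime) : ¬ q ∣ c := fun hd => by
  obtain ⟨y, hy, hxy⟩ := hc q hq hd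
  rcases h with h | h
  · exact I.pairs p q h x y hx hy hxy
  · exact I.pairs q p h y x hy hx hxy.symm

variable (I : Input G)

include I

theorem Input.cent23 {x : G} (hx : orderOf x = 23) :
    Nat.card ↥(centralizer ((zpowers x : Subgroup G) : Set G)) = 23 ∧ eOf x = 22 := by
  haveI : Fact (Nat.Prime 23) := ⟨by norm_num⟩
  obtain ⟨c, hC, hpc, hcd, he, h1, h2, hc⟩ := local_data I.card (p := 23) (by norm_num) (by norm_num) hx
  have h := I.exclude (by simp) hx hc hcd
  have h' : c ∣ 11 ^ 3 * 31 * 23 ^ 1 * 29 ^ 1 * 37 ^ 1 * 43 ^ 1 := h.trans (by norm_num)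
  have h'' : c ∣ 11 ^ 3 * 31 :=
    strip (by norm_num) (strip (by norm_num) (strip (by norm_num) (strip (by norm_num) h'
      (I.no_pair (q := 43) (Or.inl (by simp)) hx hc (by norm_num)))
      (I.no_pair (q := 37) (Or.inl (by simp)) hx hc (by norm_num)))
      (I.no_pair (q := 29) (Or.inl (by simp)) hx hc (by norm_num))) hpc
  have h22 : 22 ∣ eOf x := by
    obtain ⟨w, k, hw, hk⟩ := I.wit23
    obtain ⟨g, hg⟩ := exists_conj_sylow (p := 23) (by rw [I.card]; norm_num) (Sylow.ofCard (zpowers x) (by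
      rw [Nat.card_zpowers, hx, I.card, show Nat.factorization cardJ4 23 = 1 from factorization_one (by norm_num) (by norm_num), pow_one])) hw
    have e : eOf (g * w * g⁻¹) = eOf x := by rw [eOf, eOf, hg]; rfl
    rw [← e]
    refine dvd_eOf (p := 23) (a := 5) (h := g * k * g⁻¹) (by rw [orderOf_conj', hw]) (by norm_num)
      (by rw [conj_pow, ← hk]; group) (fun o ho => ?_) ⟨14, by norm_num⟩
    have key : ∀ r < 22, 5 ^ r % 23 = 1 → r = 0 := by decide +kernel
    refine Nat.dvd_of_mod_eq_zero (key _ (Nat.mod_lt _ (by norm_num)) ?_)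
    rw [← Nat.mod_add_div o 22, pow_add, pow_mul, Nat.mul_mod, Nat.pow_mod (5 ^ 22)] at ho
    simpa using ho
  obtain ⟨i, hi, hc'⟩ := small_c h'' (Or.inl (by norm_num))
  have he' : eOf x < 23 := lt_of_le_of_lt (Nat.le_of_dvd (by norm_num) he) (by norm_num)
  rcases hc' with rfl | rfl
  · obtain ⟨rfl, -, e⟩ := pick23 i hi 0 (by norm_num) _ he' (sylOk_of (by simpa using h1) (by simpa using h2))
      (Nat.dvd_iff_mod_eq_zero.1 he) (Nat.dvd_iff_mod_eq_zero.1 h22)
    exact ⟨by simpa using hC, e⟩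
  · obtain ⟨-, hj, -⟩ := pick23 i hi 1 (by norm_num) _ he' (sylOk_of (by simpa using h1) (by simpa using h2))
      (Nat.dvd_iff_mod_eq_zero.1 he) (Nat.dvd_iff_mod_eq_zero.1 h22)
    simp at hj

theorem Input.cent31 {x : G} (hx : orderOf x = 31) :
    Nat.card ↥(centralizer ((zpowers x : Subgroup G) : Set G)) = 31 ∧ eOf x = 10 := by
  haveI : Fact (Nat.Prime 31) := ⟨by norm_num⟩
  obtain ⟨c, hC, hpc, hcd, he, h1, h2, hc⟩ := local_data I.card (p := 31) (by norm_num) (by norm_num) hx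
  have h := I.exclude (by simp) hx hc hcd
  have n23 : ¬ 23 ∣ c := fun hd => by
    obtain ⟨y, hy, hxy⟩ := hc 23 (by norm_num) hd
    have hm : x ∈ centralizer ((zpowers y : Subgroup G) : Set G) := by
      rw [centralizer_zpowers_eq, mem_centralizer_singleton_iff]; exact hxy.eq
    have := orderOf_dvd_natCard (⟨x, hm⟩ : centralizer ((zpowers y : Subgroup G) : Set G))
    rw [Subgroup.orderOf_mk, hx, (I.cent23 hy).1] at this
    norm_num at this
  have h' : c ∣ 11 ^ 3 * 1 * 31 ^ 1 * 23 ^ 1 * 29 ^ 1 * 37 ^ 1 * 43 ^ 1 := h.trans (by norm_num)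
  have h'' : c ∣ 11 ^ 3 * 1 :=
    strip (by norm_num) (strip (by norm_num) (strip (by norm_num) (strip (by norm_num) (strip (by norm_num) h'
      (I.no_pair (q := 43) (Or.inl (by simp)) hx hc (by norm_num)))
      (I.no_pair (q := 37) (Or.inl (by simp)) hx hc (by norm_num)))
      (I.no_pair (q := 29) (Or.inr (by simp)) hx hc (by norm_num))) n23) hpc
  have h2e : 2 ∣ eOf x := by
    obtain ⟨w, k, hw, hk⟩ := I.wit31
    obtain ⟨g, hg⟩ := exists_conj_sylow (p := 31) (by rw [I.card]; norm_num) (Sylow.ofCard (zpowers x) (by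
      rw [Nat.card_zpowers, hx, I.card, show Nat.factorization cardJ4 31 = 1 from factorization_one (by norm_num) (by norm_num), pow_one])) hw
    have e : eOf (g * w * g⁻¹) = eOf x := by rw [eOf, eOf, hg]; rfl
    rw [← e]
    refine dvd_eOf (p := 31) (a := 30) (h := g * k * g⁻¹) (by rw [orderOf_conj', hw]) (by norm_num)
      (by rw [conj_pow, ← hk]; group) (fun o ho => ?_) ⟨30, by norm_num⟩
    have key : ∀ r < 2, 30 ^ r % 31 = 1 → r = 0 := by decide +kernel
    refine Nat.dvd_of_mod_eq_zero (key _ (Nat.mod_lt _ (by norm_num)) ?_)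
    rw [← Nat.mod_add_div o 2, pow_add, pow_mul, Nat.mul_mod, Nat.pow_mod (30 ^ 2)] at ho
    simpa using ho
  obtain ⟨i, hi, hc'⟩ := small_c h'' (Or.inr rfl)
  have hci : c = 11 ^ i := by rcases hc' with h | h <;> simpa using h
  subst hci
  obtain ⟨rfl, e⟩ := pick31 i hi _ (lt_of_le_of_lt (Nat.le_of_dvd (by norm_num) he) (by norm_num)) (sylOk_of h1 h2)
    (Nat.dvd_iff_mod_eq_zero.1 he) (Nat.dvd_iff_mod_eq_zero.1 h2e)
  exact ⟨by simpa using hC, e⟩

theorem Input.cent37 {x : G} (hx : orderOf x = 37) :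
    Nat.card ↥(centralizer ((zpowers x : Subgroup G) : Set G)) = 37 ∧ eOf x = 12 := by
  haveI : Fact (Nat.Prime 37) := ⟨by norm_num⟩
  obtain ⟨c, hC, hpc, hcd, he, h1, h2, hc⟩ := local_data I.card (p := 37) (by norm_num) (by norm_num) hx
  have h := I.exclude (by simp) hx hc hcd
  have h' : c ∣ 11 ^ 3 * 1 * 37 ^ 1 * 23 ^ 1 * 29 ^ 1 * 31 ^ 1 * 43 ^ 1 := h.trans (by norm_num)
  have h'' : c ∣ 11 ^ 3 * 1 :=
    strip (by norm_num) (strip (by norm_num) (strip (by norm_num) (strip (by norm_num) (strip (by norm_num) h'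
      (I.no_pair (q := 43) (Or.inl (by simp)) hx hc (by norm_num)))
      (I.no_pair (q := 31) (Or.inr (by simp)) hx hc (by norm_num)))
      (I.no_pair (q := 29) (Or.inr (by simp)) hx hc (by norm_num)))
      (I.no_pair (q := 23) (Or.inr (by simp)) hx hc (by norm_num))) hpc
  obtain ⟨i, hi, hc'⟩ := small_c h'' (Or.inr rfl)
  have hci : c = 11 ^ i := by rcases hc' with h | h <;> simpa using h
  subst hci
  obtain ⟨rfl, e⟩ := pick37 i hi _ (lt_of_le_of_lt (Nat.le_of_dvd (by norm_num) he) (by norm_num)) (sylOk_of h1 h2)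
    (Nat.dvd_iff_mod_eq_zero.1 he)
  exact ⟨by simpa using hC, e⟩

theorem Input.data29 {x : G} (hx : orderOf x = 29) :
    (Nat.card ↥(centralizer ((zpowers x : Subgroup G) : Set G)) = 29 ∧ eOf x = 28) ∨
      (Nat.card ↥(centralizer ((zpowers x : Subgroup G) : Set G)) = 29 * 43 ∧ eOf x = 2 ∧
        ∃ y : G, orderOf y = 43 ∧ Commute x y) := by
  haveI : Fact (Nat.Prime 29) := ⟨by norm_num⟩
  obtain ⟨c, hC, hpc, hcd, he, h1, h2, hc⟩ := local_data I.card (p := 29) (by norm_num) (by norm_num) hx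
  have h := I.exclude (by simp) hx hc hcd
  have h' : c ∣ 11 ^ 3 * 43 * 29 ^ 1 * 23 ^ 1 * 31 ^ 1 * 37 ^ 1 := h.trans (by norm_num)
  have h'' : c ∣ 11 ^ 3 * 43 :=
    strip (by norm_num) (strip (by norm_num) (strip (by norm_num) (strip (by norm_num) h'
      (I.no_pair (q := 37) (Or.inl (by simp)) hx hc (by norm_num)))
      (I.no_pair (q := 31) (Or.inl (by simp)) hx hc (by norm_num)))
      (I.no_pair (q := 23) (Or.inr (by simp)) hx hc (by norm_num))) hpc
  obtain ⟨i, hi, hc'⟩ := small_c h'' (Or.inl (by norm_num))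
  have he' : eOf x < 29 := lt_of_le_of_lt (Nat.le_of_dvd (by norm_num) he) (by norm_num)
  rcases hc' with rfl | rfl
  · rcases pick29 i hi 0 (by norm_num) _ he' (sylOk_of (by simpa using h1) (by simpa using h2))
      (Nat.dvd_iff_mod_eq_zero.1 he) with ⟨rfl, -, e⟩ | ⟨-, hj, -⟩
    · exact Or.inl ⟨by simpa using hC, e⟩
    · simp at hj
  · rcases pick29 i hi 1 (by norm_num) _ he' (sylOk_of (by simpa using h1) (by simpa using h2))
      (Nat.dvd_iff_mod_eq_zero.1 he) with ⟨-, hj, -⟩ | ⟨rfl, -, e⟩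
    · simp at hj
    · exact Or.inr ⟨by simpa using hC, e, hc 43 (by norm_num) (by norm_num)⟩

theorem Input.data43 {y : G} (hy : orderOf y = 43) :
    (Nat.card ↥(centralizer ((zpowers y : Subgroup G) : Set G)) = 43 ∧ eOf y = 14) ∨
      (Nat.card ↥(centralizer ((zpowers y : Subgroup G) : Set G)) = 43 * 29 ∧ eOf y = 42 ∧
        ∃ x : G, orderOf x = 29 ∧ Commute y x) := by
  haveI : Fact (Nat.Prime 43) := ⟨by norm_num⟩
  obtain ⟨c, hC, hpc, hcd, he, h1, h2, hc⟩ := local_data I.card (p := 43) (by norm_num) (by norm_num) hy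
  have h := I.exclude (by simp) hy hc hcd
  have h' : c ∣ 11 ^ 3 * 29 * 43 ^ 1 * 23 ^ 1 * 31 ^ 1 * 37 ^ 1 := h.trans (by norm_num)
  have h'' : c ∣ 11 ^ 3 * 29 :=
    strip (by norm_num) (strip (by norm_num) (strip (by norm_num) (strip (by norm_num) h'
      (I.no_pair (q := 37) (Or.inr (by simp)) hy hc (by norm_num)))
      (I.no_pair (q := 31) (Or.inr (by simp)) hy hc (by norm_num)))
      (I.no_pair (q := 23) (Or.inr (by simp)) hy hc (by norm_num))) hpc
  obtain ⟨i, hi, hc'⟩ := small_c h'' (Or.inl (by norm_num))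
  have he' : eOf y < 43 := lt_of_le_of_lt (Nat.le_of_dvd (by norm_num) he) (by norm_num)
  rcases hc' with rfl | rfl
  · rcases pick43 i hi 0 (by norm_num) _ he' (sylOk_of (by simpa using h1) (by simpa using h2))
      (Nat.dvd_iff_mod_eq_zero.1 he) with ⟨rfl, -, e⟩ | ⟨-, hj, -⟩
    · exact Or.inl ⟨by simpa using hC, e⟩
    · simp at hj
  · rcases pick43 i hi 1 (by norm_num) _ he' (sylOk_of (by simpa using h1) (by simpa using h2))
      (Nat.dvd_iff_mod_eq_zero.1 he) with ⟨-, hj, -⟩ | ⟨rfl, -, e⟩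
    · simp at hj
    · exact Or.inr ⟨by simpa using hC, e, hc 29 (by norm_num) (by norm_num)⟩

theorem Input.no_29_43 {x y : G} (hx : orderOf x = 29) (hy : orderOf y = 43) : ¬ Commute x y := by
  haveI : Fact (Nat.Prime 29) := ⟨by norm_num⟩
  intro hxy
  have hxCy : x ∈ centralizer ((zpowers y : Subgroup G) : Set G) := by
    rw [centralizer_zpowers_eq, mem_centralizer_singleton_iff]; exact hxy.eq
  have hyCx : y ∈ centralizer ((zpowers x : Subgroup G) : Set G) := by
    rw [centralizer_zpowers_eq, mem_centralizer_singleton_iff]; exact hxy.eq.symm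
  have big : ∀ {K : Subgroup G}, x ∈ K → y ∈ K → 29 * 43 ≤ Nat.card K := fun {K} hxK hyK => by
    refine Nat.le_of_dvd Nat.card_pos (Nat.Coprime.mul_dvd_of_dvd_of_dvd (by norm_num) ?_ ?_)
    · rw [← hx, ← Subgroup.orderOf_mk x hxK]; exact orderOf_dvd_natCard _
    · rw [← hy, ← Subgroup.orderOf_mk y hyK]; exact orderOf_dvd_natCard _
  rcases I.data29 hx with ⟨hC, -⟩ | ⟨hC, ex, -⟩
  · have := big (zpowers_le.1 (Subgroup.le_centralizer (zpowers x))) hyCx
    omega
  rcases I.data43 hy with ⟨hC', -⟩ | ⟨hC', ey, -⟩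
  · have := big hxCy (zpowers_le.1 (Subgroup.le_centralizer (zpowers y)))
    omega
  set K := zpowers x ⊔ zpowers y
  have hKy : K = centralizer ((zpowers y : Subgroup G) : Set G) :=
    eq_of_le_of_card_ge (sup_le (zpowers_le.2 hxCy) (Subgroup.le_centralizer (zpowers y)))
      (hC'.trans_le ((by norm_num : 43 * 29 ≤ 29 * 43).trans (big (mem_sup_left (mem_zpowers x)) (mem_sup_right (mem_zpowers y)))))
  have hKx : K ≤ centralizer ((zpowers x : Subgroup G) : Set G) :=
    sup_le (Subgroup.le_centralizer (zpowers x)) (zpowers_le.2 hyCx)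
  let U : Sylow 29 G := Sylow.ofCard (zpowers x) (by
    rw [Nat.card_zpowers, hx, I.card, show Nat.factorization cardJ4 29 = 1 from factorization_one (by norm_num) (by norm_num), pow_one])
  have hle : normalizer ((zpowers y : Subgroup G) : Set G) ≤ normalizer ((zpowers x : Subgroup G) : Set G) := by
    intro g hg
    have hmem : ∀ g ∈ normalizer ((zpowers y : Subgroup G) : Set G), ∀ a ∈ zpowers x, g * a * g⁻¹ ∈ zpowers x := by
      intro g hg a ha
      obtain ⟨i, rfl⟩ := mem_zpowers_iff.1 ha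
      rw [← conj_zpow]
      refine zpow_mem ?_ i
      have hc : g * x * g⁻¹ ∈ centralizer ((zpowers y : Subgroup G) : Set G) := by
        refine mem_centralizer_iff.2 fun b hb => ?_
        have hb' : g⁻¹ * b * g ∈ zpowers y := by
          have h := mem_normalizer_iff.1 (inv_mem hg) b
          simpa using h.1 hb
        have h := mem_centralizer_iff.1 hxCy _ hb'
        calc b * (g * x * g⁻¹) = g * (g⁻¹ * b * g * x) * g⁻¹ := by group
          _ = g * (x * (g⁻¹ * b * g)) * g⁻¹ := by rw [h]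
          _ = g * x * g⁻¹ * b := by group
      exact Blocks.PrimeSylow.mem_of_pElement_centralizer U (hKx (hKy ▸ hc)) ⟨1, by rw [orderOf_conj', hx, pow_one]⟩
    refine mem_normalizer_iff.2 fun a => ⟨hmem g hg a, fun ha => ?_⟩
    have h := hmem g⁻¹ (inv_mem hg) _ ha
    simpa [mul_assoc] using h
  have := card_le_of_le hle
  rw [card_normalizer_eq, card_normalizer_eq, hC, hC', ex, ey] at this
  omega

/-- **The conclusion.** -/
theorem Input.sylow_facts {p n : ℕ} (hn : (p, n) ∈ ([(23, 22), (29, 28), (31, 10), (37, 12), (43, 14)] : List (ℕ × ℕ)))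
    (U : Sylow p G) : centralizer ((U : Subgroup G) : Set G) = (U : Subgroup G) ∧
      Nat.card ↥(normalizer ((U : Subgroup G) : Set G)) = p * n := by
  have hp : p.Prime ∧ p ∣ cardJ4 ∧ ¬ p ^ 2 ∣ cardJ4 := by
    simp only [List.mem_cons, Prod.mk.injEq, List.not_mem_nil, or_false] at hn
    rcases hn with ⟨rfl, -⟩ | ⟨rfl, -⟩ | ⟨rfl, -⟩ | ⟨rfl, -⟩ | ⟨rfl, -⟩ <;> norm_num
  haveI := Fact.mk hp.1
  have hUc := card_sylow_of_sq (I.card ▸ hp.2.1) (I.card ▸ hp.2.2) U
  obtain ⟨x, -, hx, hxU⟩ := Blocks.PrimeSylow.exists_gen U hUc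
  have key : Nat.card ↥(centralizer ((zpowers x : Subgroup G) : Set G)) = p ∧ eOf x = n := by
    simp only [List.mem_cons, Prod.mk.injEq, List.not_mem_nil, or_false] at hn
    rcases hn with ⟨rfl, rfl⟩ | ⟨rfl, rfl⟩ | ⟨rfl, rfl⟩ | ⟨rfl, rfl⟩ | ⟨rfl, rfl⟩
    · exact I.cent23 hx
    · exact (I.data29 hx).resolve_right fun ⟨_, _, y, hy, hc⟩ => I.no_29_43 hx hy hc
    · exact I.cent31 hx
    · exact I.cent37 hx
    · exact (I.data43 hx).resolve_right fun ⟨_, _, y, hy, hc⟩ => I.no_29_43 hy hx hc.symm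
  rw [← hxU]
  refine ⟨(eq_of_le_of_card_ge (Subgroup.le_centralizer (zpowers x)) ?_).symm, by rw [card_normalizer_eq, key.1, key.2]⟩
  rw [key.1, Nat.card_zpowers, hx]

end CfsgLib.J4Local
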