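import Cfsg.Agent.Lib.J4Local.PGL
import Cfsg.Agent.Lib.J4Local.FixCheck
import Cfsg.Agent.Lib.J4Local.Primes

/-!
# Commuting pairs of big prime order and two witnesses, read from the representation
-/

set_option autoImplicit false
set_option maxRecDepth 100000

namespace CfsgLib.J4Local

open CfsgLib.J4P

universe u

variable {G : Type u} [Group G] [Finite G]

/-- The representation of a group isomorphic to the presented J4. -/
noncomputable def rhoE (e : G ≃* Cfsg.Spor.J4) : G →* U112 := rho.comp e.toMonoidHom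

theorem rhoE_injective (e : G ≃* Cfsg.Spor.J4) : Function.Injective (rhoE e) :=
  J4Kp.rho_injective.comp e.injective

theorem rho_wordB {w A : List ℕ} (h : wordB w A = true) :
    ((rho (elw w)) : Matrix (Fin 112) (Fin 112) (ZMod 2)) = toMatB 112 A ∧ A.length = 112 := by
  simp only [wordB, Bool.and_eq_true, List.all_eq_true, Nat.beq_eq] at h
  exact ⟨rho_elw (fun g hg => Nat.le_of_ble_eq_true (h.1.1 g hg)) h.2, h.1.2⟩

theorem toMatB_powL {A : List ℕ} (hA : A.length = 112) :
    ∀ n : ℕ, (powL A n).length = 112 ∧ toMatB 112 (powL A n) = toMatB 112 A ^ n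
  | 0 => ⟨by simp [powL, idB], by rw [powL, toMatB_id, pow_zero]⟩
  | n + 1 => ⟨by rw [powL, length_mmulB]; exact (toMatB_powL hA n).1,
      by rw [powL, toMatB_mul (toMatB_powL hA n).1 hA, (toMatB_powL hA n).2, pow_succ]⟩

theorem rho_ne_one {g : Cfsg.Spor.J4} {A : List ℕ} (hA : A.length = 112) (hb : (A == idB 112) = false)
    (hbd : (A.all fun v => Nat.blt v (2 ^ 112)) = true)
    (hg : ((rho g) : Matrix (Fin 112) (Fin 112) (ZMod 2)) = toMatB 112 A) : g ≠ 1 := by
  rintro rfl
  rw [map_one, Units.val_one, ← toMatB_id 112] at hg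
  refine Bool.false_ne_true (hb.symm.trans (beq_iff_eq.2 ?_))
  refine List.ext_getElem (by simp [hA, idB]) fun i hi hi' => Nat.eq_of_testBit_eq fun j => ?_
  have hi2 : i < 112 := hA ▸ hi
  by_cases hj : j < 112
  · have e := congrArg (fun M => M ⟨i, hi2⟩ ⟨j, hj⟩) hg
    simp only [toMatB, Matrix.of_apply, List.getD_eq_getElem _ _ hi, List.getD_eq_getElem _ _ hi'] at e
    revert e
    cases A[i].testBit j <;> cases ((idB 112)[i]).testBit j <;> simp [bitZ]
  · have lt : ∀ v : ℕ, v < 2 ^ 112 → v.testBit j = false := fun v hv =>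
      Nat.testBit_lt_two_pow (lt_of_lt_of_le hv (Nat.pow_le_pow_right (by norm_num) (not_lt.1 hj)))
    rw [lt _ (Nat.le_of_ble_eq_true (List.all_eq_true.1 hbd _ (List.getElem_mem hi))),
      lt _ (by simp [idB]; exact Nat.pow_lt_pow_right (by norm_num) hi2)]

theorem bounds : ((mat23 ++ mat29 ++ mat31 ++ mat37 ++ mat43 ++ matX ++ mmulB invAMat invBMat).all
    fun v => Nat.blt v (2 ^ 112)) = true := by decide +kernel

theorem witness {p d : ℕ} [hp : Fact p.Prime] (e : G ≃* Cfsg.Spor.J4) {w A Q P T : List ℕ}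
    (h : (wordB w A && fixCertB d A Q P T) = true) (ho : (powL A p == idB 112) = true ∧ (A == idB 112) = false)
    (hbd : (A.all fun v => Nat.blt v (2 ^ 112)) = true) :
    ∃ x : G, orderOf x = p ∧ Nat.card (fixM {rhoE e x}) = 2 ^ d := by
  simp only [Bool.and_eq_true] at h
  obtain ⟨hA, hl⟩ := rho_wordB h.1
  refine ⟨e.symm (elw w), ?_, card_fixM_cert h.2 (by simp [rhoE, hA])⟩
  rw [MulEquiv.orderOf_eq]
  refine orderOf_eq_prime (J4Kp.rho_injective (Units.ext ?_)) (rho_ne_one hl ho.2 hbd hA)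
  have e2 := congrArg (toMatB 112) (eq_of_beq ho.1)
  rw [(toMatB_powL hl p).2, toMatB_id] at e2
  rw [map_pow, Units.val_pow_eq_pow_val, hA, e2, map_one, Units.val_one]

/-- All elements of one prime order have a fixed space of one dimension. -/
def FixAll (ρ : G →* U112) (p d : ℕ) : Prop := ∀ y : G, orderOf y = p → Nat.card (fixM {ρ y}) = 2 ^ d

theorem fixAll_of {p d : ℕ} [hp : Fact p.Prime] (ρ : G →* U112) (hd : ¬ p ^ 2 ∣ Nat.card G)
    {x : G} (hx : orderOf x = p) (h : Nat.card (fixM {ρ x}) = 2 ^ d) : FixAll ρ p d := by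
  intro y hy
  have hp' : p ∣ Nat.card G := hx ▸ orderOf_dvd_natCard x
  obtain ⟨g, hg⟩ := exists_conj_sylow hd (Sylow.ofCard (Subgroup.zpowers y) (by
    rw [Nat.card_zpowers, hy, factorization_one hp' hd, pow_one])) hx
  have hmap : ∀ {a b : G}, a ∈ Subgroup.zpowers b → ρ a ∈ Subgroup.zpowers (ρ b) := fun {a b} hab => by
    obtain ⟨i, rfl⟩ := Subgroup.mem_zpowers_iff.1 hab
    rw [map_zpow]; exact zpow_mem (Subgroup.mem_zpowers _) i
  have hg' : Subgroup.zpowers (g * x * g⁻¹) = Subgroup.zpowers y := hg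
  rw [← fixM_eq_of_powers (u := ρ (g * x * g⁻¹)) (w := ρ y) (hmap (hg' ▸ Subgroup.mem_zpowers y))
    (hmap (hg'.symm ▸ Subgroup.mem_zpowers (g * x * g⁻¹)))]
  have hc := fixM_conj (ρ g⁻¹) {ρ x}
  rw [Set.image_singleton] at hc
  have hρ : ρ (g * x * g⁻¹) = (ρ g⁻¹)⁻¹ * ρ x * ρ g⁻¹ := by rw [map_mul, map_mul, map_inv ρ g, inv_inv]
  rw [hρ]
  exact hc.trans h

theorem input_of (hG : ¬ IsMulCommutative G) [IsSimpleGroup G] (hJ : Cfsg.IsOfJankoFourType G)
    (e : G ≃* Cfsg.Spor.J4) : Input G := by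
  have hcard : Nat.card G = cardJ4 := (Nat.card_congr e.toEquiv).trans J4Kp.card_eq
  haveI : Fact (Nat.Prime 23) := ⟨by norm_num⟩
  haveI : Fact (Nat.Prime 29) := ⟨by norm_num⟩
  haveI : Fact (Nat.Prime 31) := ⟨by norm_num⟩
  haveI : Fact (Nat.Prime 37) := ⟨by norm_num⟩
  haveI : Fact (Nat.Prime 43) := ⟨by norm_num⟩
  have hb := bounds
  simp only [List.all_append, Bool.and_eq_true] at hb
  obtain ⟨⟨⟨⟨⟨⟨b23, b29⟩, b31⟩, b37⟩, b43⟩, bX⟩, bP⟩ := hb
  obtain ⟨x23, o23, f23⟩ := witness e fix23 ord23 b23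
  obtain ⟨x29, o29, f29⟩ := witness e fix29 ord29 b29
  obtain ⟨x31, o31, f31⟩ := witness e fix31 ord31 b31
  obtain ⟨x37, o37, f37⟩ := witness e fix37 ord37 b37
  obtain ⟨x43, o43, f43⟩ := witness e fix43 ord43 b43
  have F23 := fixAll_of (rhoE e) (by rw [hcard]; norm_num) o23 f23
  have F29 := fixAll_of (rhoE e) (by rw [hcard]; norm_num) o29 f29
  have F31 := fixAll_of (rhoE e) (by rw [hcard]; norm_num) o31 f31
  have F37 := fixAll_of (rhoE e) (by rw [hcard]; norm_num) o37 f37
  have F43 := fixAll_of (rhoE e) (by rw [hcard]; norm_num) o43 f43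
  refine ⟨hcard, ?_, ?_, ?_, ?_⟩
  · intro p hp x y hx r hr hy
    haveI : Fact p.Prime := ⟨by
      simp only [List.mem_cons, List.not_mem_nil, or_false] at hp
      rcases hp with rfl | rfl | rfl | rfl | rfl <;> norm_num⟩
    exact no_small_commute hG hJ hp hx hr hy
  · intro p q hpq x y hx hy hc
    have key : ∀ {r s dx dy : ℕ} [Fact r.Prime] [Fact s.Prime], FixAll (rhoE e) r dx → FixAll (rhoE e) s dy →
        pairOk r s dx dy = true → orderOf x = r → orderOf y = s → False := by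
      intro r s dx dy _ _ hr hs hok hxr hys
      exact not_commute hok (by rw [← map_pow, ← hxr, pow_orderOf_eq_one, map_one])
        (by rw [← map_pow, ← hys, pow_orderOf_eq_one, map_one]) (hr x hxr) (hs y hys) (hc.map (rhoE e))
    simp only [List.mem_cons, Prod.mk.injEq, List.not_mem_nil, or_false] at hpq
    rcases hpq with ⟨rfl, rfl⟩ | ⟨rfl, rfl⟩ | ⟨rfl, rfl⟩ | ⟨rfl, rfl⟩ | ⟨rfl, rfl⟩ | ⟨rfl, rfl⟩ | ⟨rfl, rfl⟩ | ⟨rfl, rfl⟩
    · exact key F23 F29 (by decide +kernel) hx hy
    · exact key F23 F37 (by decide +kernel) hx hy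
    · exact key F23 F43 (by decide +kernel) hx hy
    · exact key F29 F31 (by decide +kernel) hx hy
    · exact key F29 F37 (by decide +kernel) hx hy
    · exact key F31 F37 (by decide +kernel) hx hy
    · exact key F31 F43 (by decide +kernel) hx hy
    · exact key F37 F43 (by decide +kernel) hx hy
  · obtain ⟨R, hx1⟩ := pgl_rels
    refine ⟨e.symm (elw wordX), e.symm (elw wordH), ?_, ?_⟩
    · rw [MulEquiv.orderOf_eq]; exact orderOf_eq_prime R.hx hx1
    · rw [← map_pow, ← map_inv, ← map_mul, ← map_mul]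
      exact congrArg e.symm (by rw [R.hc, mul_inv_cancel_right])
  · obtain ⟨hok, hne⟩ := inv_pair
    simp only [Bool.and_eq_true] at hok
    obtain ⟨⟨⟨⟨hwa, hwb⟩, ha⟩, hb'⟩, h31⟩ := hok
    obtain ⟨hA, lA⟩ := rho_wordB hwa
    obtain ⟨hB, lB⟩ := rho_wordB hwb
    have lAB : (mmulB invAMat invBMat).length = 112 := (length_mmulB _ _).trans lA
    have ea := congrArg (toMatB 112) (eq_of_beq ha)
    have eb := congrArg (toMatB 112) (eq_of_beq hb')
    have ep := congrArg (toMatB 112) (eq_of_beq h31)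
    rw [toMatB_mul lA lA, toMatB_id] at ea
    rw [toMatB_mul lB lB, toMatB_id] at eb
    rw [(toMatB_powL lAB 31).2, toMatB_id] at ep
    have hab : ((rho (elw invA * elw invB)) : Matrix (Fin 112) (Fin 112) (ZMod 2)) = toMatB 112 (mmulB invAMat invBMat) := by
      rw [map_mul, Units.val_mul, hA, hB, toMatB_mul lA lB]
    have ha1 : elw invA * elw invA = 1 := J4Kp.rho_injective (Units.ext (by
      rw [map_mul, Units.val_mul, hA, ea, map_one, Units.val_one]))
    have hb1 : elw invB * elw invB = 1 := J4Kp.rho_injective (Units.ext (by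
      rw [map_mul, Units.val_mul, hB, eb, map_one, Units.val_one]))
    have hp1 : (elw invA * elw invB) ^ 31 = 1 := J4Kp.rho_injective (Units.ext (by
      rw [map_pow, Units.val_pow_eq_pow_val, hab, ep, map_one, Units.val_one]))
    refine ⟨e.symm (elw invA * elw invB), e.symm (elw invA), ?_, ?_⟩
    · rw [MulEquiv.orderOf_eq]; exact orderOf_eq_prime hp1 (rho_ne_one lAB hne bP hab)
    · rw [← map_pow, ← map_inv, ← map_mul, ← map_mul]
      refine congrArg e.symm ?_
      have e30 : (elw invA * elw invB) ^ 30 = (elw invA * elw invB)⁻¹ :=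
        eq_inv_of_mul_eq_one_left (by rw [← pow_succ, hp1])
      rw [e30, mul_inv_rev, inv_eq_of_mul_eq_one_right ha1, inv_eq_of_mul_eq_one_right hb1, ← mul_assoc, ha1,
        one_mul]

end CfsgLib.J4Local
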